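import Cfsg.Agent.Lib.FeitZass.Abelian
import Cfsg.Agent.Lib.SmallGroups.ZassenhausHalf.Cuspidal
import Cfsg.Agent.S0738
import Cfsg.Agent.S0741
import Cfsg.Agent.S1534
import Cfsg.Agent.Lib.Suzuki.ZassenhausNormal

/-!
# Feit's argument in a Zassenhaus group
-/

set_option autoImplicit false

namespace CfsgLib.FeitZass

open MulAction CfsgLib.Char CfsgLib.Char.Zassenhaus
open scoped commutatorElement

variable {G Ω : Type*} [Group G] [Finite G] [MulAction G Ω] [Fintype Ω]
  (hZ : Cfsg.IsZassenhausGroup G Ω) {a b : Ω} (hab : a ≠ b) {H : Subgroup G}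
  (hHa : H ≤ stabilizer G a) (hHcard : Nat.card H + 1 = Fintype.card Ω)
  (hHfix : ∀ u ∈ H, u ≠ 1 → ∀ c : Ω, u • c = c → c = a)

include hZ hab hHa hHcard hHfix in
/-- The kernel contains the centralizers of its nonidentity elements. -/
theorem centralizer_le : ∀ k ∈ H, k ≠ 1 → Subgroup.centralizer ({k} : Set G) ≤ H := by
  intro k hk hk1 g hg
  have hgk := Subgroup.mem_centralizer_singleton_iff.mp hg
  have hga : g • a = a := hHfix k hk hk1 _ (by
    rw [← mul_smul, ← hgk, mul_smul, mem_stabilizer_iff.mp (hHa hk)])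
  by_contra hgH
  obtain ⟨v, hv, y, hy, hy1, rfl⟩ :=
    exists_conj_mem hZ hab hHa hHcard hHfix (mem_stabilizer_iff.mpr hga) hgH
  have h3 : v⁻¹ * k * v ∈ H ⊓ Subgroup.centralizer {y} := by
    refine ⟨H.mul_mem (H.mul_mem (H.inv_mem hv) hk) hv,
      Subgroup.mem_centralizer_singleton_iff.mpr ?_⟩
    calc v⁻¹ * k * v * y = v⁻¹ * (k * (v * y * v⁻¹)) * v := by group
      _ = v⁻¹ * (v * y * v⁻¹ * k) * v := by rw [hgk]
      _ = y * (v⁻¹ * k * v) := by group
  rw [fpf hZ hab hHa hHfix y hy hy1, Subgroup.mem_bot] at h3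
  exact hk1 (by
    calc k = v * (v⁻¹ * k * v) * v⁻¹ := by group
      _ = 1 := by rw [h3]; group)

include hZ hab hHa hHcard hHfix in
/-- The kernel is a TI subgroup with normalizer the point stabiliser. -/
theorem ti : ∀ g : G, g ∉ stabilizer G a → ∀ k ∈ H, g * k * g⁻¹ ∈ H → k = 1 :=
  (Cfsg.Agent.S0878.result hZ a H hHa hHcard hHfix).1

include hZ hab hHa hHcard hHfix in
theorem normal_subgroupOf : (H.subgroupOf (stabilizer G a)).Normal :=
  ⟨fun n hn g => Subgroup.mem_subgroupOf.mpr
    (conj_mem_kernel hZ hab hHa hHcard hHfix g.2 (Subgroup.mem_subgroupOf.mp hn))⟩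

include hZ hab hHa hHcard hHfix in
theorem index_subgroupOf : (H.subgroupOf (stabilizer G a)).index =
    Nat.card (stabilizer G a ⊓ stabilizer G b : Subgroup G) := by
  have h1 := card_group hZ hab
  have h2 := card_stabilizer_mul hZ a
  have h3 := Subgroup.index_mul_card (H.subgroupOf (stabilizer G a))
  rw [Nat.card_congr (Subgroup.subgroupOfEquivOfLe hHa).toEquiv] at h3
  rw [← h2, ← h3, mul_assoc] at h1
  have hΩ : 0 < Fintype.card Ω := Fintype.card_pos_iff.mpr ⟨a⟩
  have h4 := Nat.eq_of_mul_eq_mul_left hΩ h1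
  rw [show Fintype.card Ω - 1 = Nat.card H by omega, mul_comm] at h4
  exact (Nat.eq_of_mul_eq_mul_right Nat.card_pos h4).symm

include hZ in
theorem index_stabilizer : (stabilizer G a).index = Fintype.card Ω := by
  have := CfsgLib.Char.Zassenhaus.isPretransitive hZ
  rw [MulAction.index_stabilizer_of_transitive, Nat.card_eq_fintype_card]

include hZ hab hHa hHcard hHfix in
theorem two_le_index : 2 ≤ (H.subgroupOf (stabilizer G a)).index := by
  rw [index_subgroupOf hZ hab hHa hHcard hHfix]
  obtain ⟨x, hx, hx1⟩ := exists_ne_one_fix hZ hab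
  by_contra h
  have : Nat.card (stabilizer G a ⊓ stabilizer G b : Subgroup G) = 1 := by
    have := Nat.card_pos (α := (stabilizer G a ⊓ stabilizer G b : Subgroup G))
    omega
  exact hx1 (Subgroup.mem_bot.mp (Subgroup.eq_bot_of_card_eq _ this ▸ hx))

include hZ hab hHa hHcard hHfix in
/-- In a simple group with two-point stabilisers of small odd order a kernel of composite order
is abelian. -/
theorem comm_of_not_primePow [IsSimpleGroup G]
    (hodd : Odd (Nat.card (stabilizer G a ⊓ stabilizer G b : Subgroup G)))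
    (hnp : ¬ IsPrimePow (Nat.card H)) : ∀ u ∈ H, ∀ v ∈ H, u * v = v * u := by
  classical
  haveI := Fintype.ofFinite G
  set N := stabilizer G a
  haveI := Fintype.ofFinite N
  haveI := normal_subgroupOf hZ hab hHa hHcard hHfix
  haveI := Fintype.ofFinite (H.subgroupOf N)
  have hC := centralizer_le hZ hab hHa hHcard hHfix
  have hC' := centralizer_subgroupOf_le H hC N
  have he := index_subgroupOf hZ hab hHa hHcard hHfix
  have he2 := two_le_index hZ hab hHa hHcard hHfix
  have hcardM : Nat.card (H.subgroupOf N) = Nat.card H :=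
    Nat.card_congr (Subgroup.subgroupOfEquivOfLe hHa).toEquiv
  haveI : Group.IsNilpotent (H.subgroupOf N) :=
    CfsgLib.OddChar.Above.nilpotent_kernel (H.subgroupOf N) (fun h => by
      rw [h, Subgroup.index_top] at he2
      omega) hC'
  have hn := three_le_points hZ hab
  have hlin : ∀ p : ℕ, p.Prime → p ∣ Nat.card (H.subgroupOf N) →
      1 < linP (H.subgroupOf N) p := by
    intro p hp hpK
    haveI := Fact.mk hp
    obtain ⟨A, B, f, hA, hB, -⟩ := exists_split (H.subgroupOf N) p
    haveI := Fintype.ofFinite A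
    haveI := Fintype.ofFinite B
    rw [linP_eq f (IsPGroup.of_card hA) hB, lev_one]
    haveI : Nontrivial A := by
      rw [← Finite.one_lt_card_iff_nontrivial, hA]
      exact Nat.one_lt_pow (hp.factorization_pos_of_dvd Nat.card_pos.ne' hpK).ne' hp.one_lt
    haveI : Group.IsNilpotent A := Subgroup.isNilpotent A
    haveI : Group.IsSolvable A := inferInstance
    exact Subgroup.one_lt_index_of_ne_top
      (Group.IsSolvable.commutator_lt_top_of_nontrivial (G := A)).ne
  obtain ⟨hbig, hlow⟩ := low_big (H.subgroupOf N) (e := (H.subgroupOf N).index) (he ▸ hodd)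
    (fun p hp hpK => ⟨hlin p hp hpK, index_dvd_linP N H hC p⟩) (hcardM ▸ hnp) (by omega)
  refine comm_of_degrees N H (ti hZ hab hHa hHcard hHfix) hC hHa ?_ he2 ?_ hlow
  · rw [index_stabilizer hZ, hHcard]
  · nlinarith

include hZ hab in
/-- The degree of a simple Zassenhaus group is one more than a prime power. -/
theorem isPrimePow_card_sub_one [IsSimpleGroup G] : IsPrimePow (Fintype.card Ω - 1) := by
  classical
  obtain ⟨H, hHa, hHcard, hHfix⟩ := exists_kernel hZ hab
  have hn := three_le_points hZ hab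
  set D := (stabilizer G a ⊓ stabilizer G b : Subgroup G)
  have hreg : ∀ y z : Ω, y ≠ a → z ≠ a → ∃! u : H, (u : G) • y = z := by
    intro y z hy hz
    have hbij := bijective_smul hZ hy.symm hHa hHcard hHfix
    obtain ⟨u, hu⟩ := hbij.2 ⟨z, hz⟩
    exact ⟨u, congrArg Subtype.val hu,
      fun v hv => hbij.1 ((Subtype.ext hv).trans hu.symm)⟩
  by_cases hd : Fintype.card Ω - 2 ≤ 2 * Nat.card D
  · obtain ⟨-, p, f, hp, -, hf⟩ := Cfsg.Agent.S0738.result hZ hab hd H hHa
      (normal_subgroupOf hZ hab hHa hHcard hHfix) hreg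
    rw [show Fintype.card Ω - 1 = p ^ f by omega]
    refine hp.isPrimePow.pow ?_
    rintro rfl
    rw [pow_zero] at hf
    omega
  have hodd : Odd (Nat.card D) := (Nat.even_or_odd _).resolve_left fun h =>
    hd (Cfsg.Agent.S0741.result hZ hab h)
  rw [show Fintype.card Ω - 1 = Nat.card H by omega]
  by_contra hnp
  have hcomm := comm_of_not_primePow hZ hab hHa hHcard hHfix hodd hnp
  have h2 := CfsgLib.SmallGroups.ZassenhausHalf.two_mul_card_eq_of_simple hZ hab hHa hHcard hHfix
    hcomm hodd (show Nat.card D < Fintype.card Ω - 2 by omega)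
  change 2 * Nat.card D = _ at h2
  omega

include hZ hab hHa hHcard hHfix in
/-- Feit's alternative in a simple Zassenhaus group. -/
theorem simple_alternative [IsSimpleGroup G]
    (hodd : Odd (Nat.card (stabilizer G a ⊓ stabilizer G b : Subgroup G)))
    (hbig : 2 * Nat.card (stabilizer G a ⊓ stabilizer G b : Subgroup G) < Nat.card H - 1) :
    IsPGroup 2 H ∧ (∃ u v : H, u * v ≠ v * u) ∧ (commutator H).index ≤
      4 * Nat.card (stabilizer G a ⊓ stabilizer G b : Subgroup G) ^ 2 + 1 := by
  classical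
  set e := Nat.card (stabilizer G a ⊓ stabilizer G b : Subgroup G) with he
  have hnc : ¬ ∀ u ∈ H, ∀ v ∈ H, u * v = v * u := fun hcomm => by
    have h2 := CfsgLib.SmallGroups.ZassenhausHalf.two_mul_card_eq_of_simple hZ hab hHa hHcard hHfix
      hcomm hodd (show e < Fintype.card Ω - 2 by omega)
    change 2 * e = _ at h2
    omega
  have hne : ∃ u v : H, u * v ≠ v * u := by
    push Not at hnc
    obtain ⟨u, hu, v, hv, h⟩ := hnc
    exact ⟨⟨u, hu⟩, ⟨v, hv⟩, fun e' => h (congrArg Subtype.val e')⟩
  have hpp : IsPrimePow (Nat.card H) := by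
    by_contra hnp
    exact hnc (comm_of_not_primePow hZ hab hHa hHcard hHfix hodd hnp)
  obtain ⟨p, k, hp, hk0, hpk⟩ := (isPrimePow_nat_iff _).mp hpp
  by_cases hsmall : p = 2 ∧ (commutator H).index ≤ 4 * e ^ 2 + 1
  · obtain ⟨rfl, hL⟩ := hsmall
    exact ⟨IsPGroup.of_card hpk.symm, hne, hL⟩
  exfalso
  haveI := Fintype.ofFinite G
  haveI := Fact.mk hp
  have hnorm : Subgroup.normalizer (H : Set G) = stabilizer G a :=
    (Cfsg.Agent.S0878.result hZ a H hHa hHcard hHfix).2
  set N := Subgroup.normalizer (H : Set G) with hN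
  haveI := Fintype.ofFinite N
  have hHN : H ≤ N := Subgroup.le_normalizer
  haveI hKn : (H.subgroupOf N).Normal := by
    rw [hnorm]; exact normal_subgroupOf hZ hab hHa hHcard hHfix
  haveI := Fintype.ofFinite (H.subgroupOf N)
  have hE : (H.subgroupOf N).index = e := by
    rw [hnorm]; exact index_subgroupOf hZ hab hHa hHcard hHfix
  have he2 : 2 ≤ e := by
    rw [he, ← index_subgroupOf hZ hab hHa hHcard hHfix]
    exact two_le_index hZ hab hHa hHcard hHfix
  have hC := centralizer_le hZ hab hHa hHcard hHfix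
  have hTI : ∀ g : G, g ∉ N → ∀ x ∈ H, g * x * g⁻¹ ∈ H → x = 1 := fun g hg =>
    ti hZ hab hHa hHcard hHfix g (hnorm ▸ hg)
  have hn := three_le_points hZ hab
  have hlt : H < N := by
    refine lt_of_le_of_ne hHN fun h => ?_
    rw [← h, Subgroup.subgroupOf_self, Subgroup.index_top] at hE
    omega
  have hH1 : H ≠ ⊥ := fun h => by rw [h, Subgroup.card_bot] at hHcard; omega
  have hHp : IsPGroup p H := IsPGroup.of_card hpk.symm
  have hnilH : Group.IsNilpotent H := hHp.isNilpotent
  haveI hnilM : Group.IsNilpotent (H.subgroupOf N) :=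
    Group.nilpotent_of_mulEquiv (Subgroup.subgroupOfEquivOfLe hHN).symm
  have hcardM : Nat.card (H.subgroupOf N) = Nat.card H :=
    Nat.card_congr (Subgroup.subgroupOfEquivOfLe hHN).toEquiv
  -- `e` divides `|H| - 1` and `[H:H'] - 1`
  have hdvd : e ∣ Nat.card H - 1 := by
    have h := Cfsg.Agent.S0738.dvd_card_invariant (stabilizer G a ⊓ stabilizer G b : Subgroup G)
      ((H : Set G) \ {1})
      (fun x hx u hu => ⟨conj_mem_kernel hZ hab hHa hHcard hHfix hx.1 hu.1, fun h1 =>
        hu.2 (conj_eq_one_iff.mp h1)⟩)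
      (fun x hx u hu h1 => by
        by_contra hx1
        exact hu.2 (CfsgLib.Solvable.eq_one_of_fpf (fpf hZ hab hHa hHfix) hx hx1 hu.1 h1))
    rwa [Nat.card_coe_set_eq, Set.ncard_sdiff_singleton_of_mem H.one_mem,
      ← Nat.card_coe_set_eq] at h
  have hmap : (commutator (H.subgroupOf N)).index = (commutator H).index := by
    rw [← card_linear (G := H.subgroupOf N)]
    haveI := Fintype.ofFinite H
    rw [← card_linear (G := H)]
    let f := Subgroup.subgroupOfEquivOfLe hHN
    refine Nat.card_congr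
      { toFun := fun χ => ⟨⟨fun x => (χ.1 : H.subgroupOf N → ℂ) (f.symm x), isIrr_of_linear
          (isCharacter_comp (isCharacter_of_isIrr χ.1.2) f.symm.toMonoidHom)
          (by rw [map_one]; exact χ.2)⟩, by
            show (χ.1 : H.subgroupOf N → ℂ) (f.symm 1) = 1
            rw [map_one]; exact χ.2⟩
        invFun := fun χ => ⟨⟨fun x => (χ.1 : H → ℂ) (f x), isIrr_of_linear
          (isCharacter_comp (isCharacter_of_isIrr χ.1.2) f.toMonoidHom)
          (by rw [map_one]; exact χ.2)⟩, by
            show (χ.1 : H → ℂ) (f 1) = 1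
            rw [map_one]; exact χ.2⟩
        left_inv := fun χ => Subtype.ext (Subtype.ext (funext fun x => by simp))
        right_inv := fun χ => Subtype.ext (Subtype.ext (funext fun x => by simp)) }
  have hLdvd : e ∣ (commutator H).index - 1 := by
    rw [← hmap, ← hE]
    obtain ⟨A, B, f, hA, hB, -⟩ := exists_split (H.subgroupOf N) p
    haveI := Fintype.ofFinite A
    haveI := Fintype.ofFinite B
    have hB1 : lev B 1 = 1 := by
      rw [lev_one]
      refine Nat.eq_one_of_dvd_one (((commutator B).index_dvd_card).trans ?_)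
      have hdB : Nat.card B ∣ p ^ k := hpk ▸ hcardM ▸ B.card_subgroup_dvd_card
      obtain ⟨i, -, hi⟩ := (Nat.dvd_prime_pow hp).mp hdB
      rcases Nat.eq_zero_or_pos i with rfl | hi0
      · rw [pow_zero] at hi; rw [hi]
      · exact absurd (hi ▸ dvd_pow_self p hi0.ne') hB
    rw [← lev_one, ← lev_one_pair f, hB1, mul_one, ← linP_eq f (IsPGroup.of_card hA) hB]
    exact index_dvd_linP N H hC p
  have hc : 1 < Nat.card (commutator H) := by
    by_contra h
    obtain ⟨u, v, huv⟩ := hne
    have h1 : ⁅u, v⁆ ∈ commutator H :=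
      Subgroup.commutator_mem_commutator (Subgroup.mem_top u) (Subgroup.mem_top v)
    rw [Subgroup.eq_bot_of_card_le (commutator H) (not_lt.mp h), Subgroup.mem_bot] at h1
    exact huv (commutatorElement_eq_one_iff_mul_comm.mp h1)
  have hL1 : 1 < (commutator H).index := by
    haveI : Nontrivial H := (Subgroup.nontrivial_iff_ne_bot H).mpr hH1
    haveI : Group.IsSolvable H := inferInstance
    exact Subgroup.one_lt_index_of_ne_top
      (Group.IsSolvable.commutator_lt_top_of_nontrivial (G := H)).ne
  have hprod := Subgroup.index_mul_card (commutator H)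
  have hcdvd : e ∣ Nat.card (commutator H) - 1 := by
    set L := (commutator H).index
    set c := Nat.card (commutator H)
    have h1 : Nat.card H - 1 = (L - 1) * c + (c - 1) := by
      rw [← hprod, tsub_mul, one_mul]
      have := Nat.le_mul_of_pos_left c (show 0 < L by omega)
      omega
    rw [h1] at hdvd
    exact (Nat.dvd_add_right (hLdvd.mul_right c)).mp hdvd
  have hc2 : e + 1 ≤ Nat.card (commutator H) := by
    have := Nat.le_of_dvd (by omega) hcdvd
    omega
  have hL2 : e + 2 ≤ (commutator H).index := by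
    have h1 := Nat.le_of_dvd (by omega) hLdvd
    by_contra h
    have hLe : (commutator H).index = e + 1 := by omega
    have h2 : p = 2 := by
      have h3 : 2 ∣ p ^ k := by
        rw [hpk]
        refine dvd_trans ?_ (commutator H).index_dvd_card
        rw [hLe]
        obtain ⟨E, hE'⟩ := hodd
        exact ⟨E + 1, by omega⟩
      exact ((Nat.prime_dvd_prime_iff_eq Nat.prime_two hp).mp (Nat.prime_two.dvd_of_dvd_pow h3)).symm
    refine hsmall ⟨h2, ?_⟩
    nlinarith
  rcases Cfsg.Agent.S1534.result H hH1 hnilH (fun g hg => hTI g hg) hlt hC with h | h | h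
  · rw [hE] at h
    omega
  · refine hsmall ⟨?_, ?_⟩
    · obtain ⟨h1, -⟩ := h
      have h2 : p ∣ 2 ^ (Nat.card G).factorization 2 := h1 ▸ hpk ▸ dvd_pow_self p hk0.ne'
      exact (Nat.prime_dvd_prime_iff_eq hp Nat.prime_two).mp (hp.dvd_of_dvd_pow h2)
    · have h2 := h.2
      rw [hE] at h2
      have : (⁅H, H⁆.subgroupOf H).index = (commutator H).index := by
        rw [← Subgroup.map_subtype_commutator, Subgroup.subgroupOf,
          Subgroup.comap_map_eq_self_of_injective H.subtype_injective]
      omega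
  · exact hnc (comm_of_coherent N H hTI hC hHN
      (by rw [hnorm, index_stabilizer hZ, hHcard]) (hE ▸ he2) hnilM
      (by rw [hE, hcardM, ← hprod]; nlinarith [Nat.mul_le_mul hL2 hc2]) h)

end CfsgLib.FeitZass

namespace CfsgLib.FeitZass

open MulAction CfsgLib.Char CfsgLib.Char.Zassenhaus

/-- Feit's alternative for any Zassenhaus group with two-point stabilisers of odd order. -/
theorem alternative {Ω : Type*} [Fintype Ω] (m : ℕ) :
    ∀ {G : Type*} [Group G] [Finite G] [MulAction G Ω], Nat.card G ≤ m →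
      Cfsg.IsZassenhausGroup G Ω → ∀ {a b : Ω}, a ≠ b → ∀ H : Subgroup G, H ≤ stabilizer G a →
      Nat.card H + 1 = Fintype.card Ω → (∀ u ∈ H, u ≠ 1 → ∀ c : Ω, u • c = c → c = a) →
      Odd (Nat.card (stabilizer G a ⊓ stabilizer G b : Subgroup G)) →
      2 * Nat.card (stabilizer G a ⊓ stabilizer G b : Subgroup G) < Nat.card H - 1 →
      IsPGroup 2 H ∧ (∃ u v : H, u * v ≠ v * u) ∧ (commutator H).index ≤
        4 * Nat.card (stabilizer G a ⊓ stabilizer G b : Subgroup G) ^ 2 + 1 := by
  induction m with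
  | zero =>
    intro G _ _ _ hle
    exact absurd (Nat.card_pos (α := G)) (by omega)
  | succ m ih =>
    intro G _ _ _ hle hZ a b hab H hHa hHcard hHfix hodd hbig
    by_cases hsimple : IsSimpleGroup G
    · exact simple_alternative hZ hab hHa hHcard hHfix hodd hbig
    obtain ⟨g₀, hg₀, -⟩ := hZ.2.2.2.1
    haveI : Nontrivial G := ⟨⟨g₀, 1, hg₀⟩⟩
    obtain ⟨N, hN, hN0, hNtop⟩ : ∃ N : Subgroup G, N.Normal ∧ N ≠ ⊥ ∧ N ≠ ⊤ := by
      by_contra hno
      push Not at hno
      exact hsimple ⟨fun N hN => or_iff_not_imp_left.2 fun h => hno N hN h⟩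
    haveI := hN
    obtain ⟨H', hH'a, hH'card, hH'fix, hH'N⟩ :=
      CfsgLib.Suzuki.ZassenhausNormal.exists_kernel_le hZ N hN0 hab
    rw [Nat.card_eq_fintype_card (α := Ω)] at hH'card
    obtain rfl : H = H' := Subgroup.eq_of_le_of_card_ge (fun u hu => by
      by_contra hu'
      obtain ⟨v, hv, y, hy, hy1, rfl⟩ := exists_conj_mem hZ hab hH'a hH'card hH'fix (hHa hu) hu'
      have h1 : (v * y * v⁻¹) • (v • b) = v • b := by
        rw [mul_smul, inv_smul_smul, mul_smul, mem_stabilizer_iff.mp hy.2]
      have h2 := hHfix _ hu (fun e => hy1 (conj_eq_one_iff.mp e)) _ h1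
      exact hab (smul_left_cancel v ((mem_stabilizer_iff.mp (hH'a hv)).trans h2.symm))) (by omega)
    have hZN := CfsgLib.Suzuki.ZassenhausNormal.isZassenhaus_normal hZ N hN0
    have hst : ∀ c : Ω, stabilizer N c = (stabilizer G c).subgroupOf N := fun c => rfl
    have hcard : Nat.card (stabilizer N a ⊓ stabilizer N b : Subgroup N) =
        Nat.card (((stabilizer G a ⊓ stabilizer G b) ⊓ N : Subgroup G)) := by
      rw [hst, hst, ← Subgroup.card_map_of_injective N.subtype_injective,
        Subgroup.map_inf _ _ _ N.subtype_injective, Subgroup.subgroupOf_map_subtype,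
        Subgroup.subgroupOf_map_subtype, ← inf_inf_distrib_right]
    have hdvd := Subgroup.card_dvd_of_le
      (inf_le_left : (stabilizer G a ⊓ stabilizer G b) ⊓ N ≤ stabilizer G a ⊓ stabilizer G b)
    rw [← hcard] at hdvd
    have hNlt : Nat.card N < Nat.card G :=
      lt_of_le_of_ne (Subgroup.card_le_card_group N) fun e => hNtop (Subgroup.eq_top_of_card_eq N e)
    have hle' := Nat.le_of_dvd Nat.card_pos hdvd
    have hcH : Nat.card (H.subgroupOf N) = Nat.card H :=
      Nat.card_congr (Subgroup.subgroupOfEquivOfLe hH'N).toEquiv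
    obtain ⟨h2, ⟨u, v, huv⟩, hL⟩ := ih (G := N) (by omega) hZN hab (H.subgroupOf N)
      (fun u hu => hHa (Subgroup.mem_subgroupOf.mp hu)) (by rw [hcH, hH'card])
      (fun u hu hu1 c hc => hHfix u (Subgroup.mem_subgroupOf.mp hu)
        (fun e => hu1 (Subtype.ext e)) c hc)
      (hodd.of_dvd_nat hdvd) (by omega)
    let f := Subgroup.subgroupOfEquivOfLe hH'N
    refine ⟨h2.of_equiv f, ⟨f u, f v, fun e => huv (f.injective (by rw [map_mul, map_mul, e]))⟩, ?_⟩
    have hidx : (commutator H).index = (commutator (H.subgroupOf N)).index := by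
      rw [← Subgroup.index_map_equiv (commutator (H.subgroupOf N)) f, commutator_def, commutator_def,
        Subgroup.map_commutator]
      congr 1
      simp [Subgroup.map_top_of_surjective (f : H.subgroupOf N →* H) f.surjective]
    rw [hidx]
    refine hL.trans ?_
    have := Nat.pow_le_pow_left hle' 2
    omega

end CfsgLib.FeitZass
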