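import Cfsg.Agent.Lib.OddLocal.Basic
import Cfsg.Agent.Lib.Char.Product
import Cfsg.Agent.Lib.Char.Linear
import Cfsg.Agent.Lib.Char.Integral
import Mathlib.GroupTheory.SchurZassenhaus

/-!
# Degrees of a nilpotent group

The sum of the squares of the degrees below a degree `n` of a nilpotent group is at least `n ^ 2`,
and larger when the group has composite order and large abelianization.
-/

set_option autoImplicit false

namespace CfsgLib.FeitZass

open CfsgLib.Char

universe u v

/-- The degree of an irreducible character. -/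
noncomputable def deg {K : Type*} [Group K] (χ : Cfsg.IrrCharacter K) : ℕ :=
  Classical.choose (exists_degree_pos χ.2)

theorem deg_pos {K : Type*} [Group K] (χ : Cfsg.IrrCharacter K) : 0 < deg χ :=
  (Classical.choose_spec (exists_degree_pos χ.2)).1

theorem apply_one {K : Type*} [Group K] (χ : Cfsg.IrrCharacter K) : (χ : K → ℂ) 1 = deg χ :=
  (Classical.choose_spec (exists_degree_pos χ.2)).2

theorem deg_eq {K : Type*} [Group K] {χ : Cfsg.IrrCharacter K} {n : ℕ} (h : (χ : K → ℂ) 1 = n) :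
    deg χ = n := by
  have := (apply_one χ).symm.trans h
  exact_mod_cast this

/-- The sum of the squares of the degrees less than `n`. -/
noncomputable def low (K : Type*) [Group K] [Fintype K] (n : ℕ) : ℕ :=
  ∑ χ ∈ Finset.univ.filter (fun χ : Cfsg.IrrCharacter K => deg χ < n), deg χ ^ 2

/-- The sum of the squares of the degrees equal to `n`. -/
noncomputable def lev (K : Type*) [Group K] [Fintype K] (n : ℕ) : ℕ :=
  ∑ χ ∈ Finset.univ.filter (fun χ : Cfsg.IrrCharacter K => deg χ = n), deg χ ^ 2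

theorem lev_one (K : Type*) [Group K] [Fintype K] : lev K 1 = (commutator K).index := by
  classical
  rw [lev, Finset.sum_congr rfl fun χ hχ => by
    rw [(Finset.mem_filter.mp hχ).2, one_pow], ← Finset.card_eq_sum_ones, ← Fintype.card_subtype,
    ← Nat.card_eq_fintype_card, ← card_linear (G := K)]
  refine Nat.card_congr (Equiv.subtypeEquivRight fun χ => ?_)
  rw [apply_one χ]
  exact_mod_cast Iff.rfl

theorem sq_le_lev {K : Type*} [Group K] [Fintype K] (χ : Cfsg.IrrCharacter K) :
    deg χ ^ 2 ≤ lev K (deg χ) :=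
  Finset.single_le_sum (f := fun χ => deg χ ^ 2) (fun _ _ => Nat.zero_le _)
    (Finset.mem_filter.mpr ⟨Finset.mem_univ χ, rfl⟩)

theorem lev_one_le_low (K : Type*) [Group K] [Fintype K] {n : ℕ} (hn : 1 < n) :
    lev K 1 ≤ low K n :=
  Finset.sum_le_sum_of_subset fun χ hχ => by
    simp only [Finset.mem_filter, Finset.mem_univ, true_and] at hχ ⊢
    omega

/-- In a `p`-group the sum of the squares of the smaller degrees is at least the square. -/
theorem sq_le_low_pgroup {K : Type*} [Group K] [Fintype K] {p : ℕ} [hp : Fact p.Prime]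
    (hK : IsPGroup p K) (χ : Cfsg.IrrCharacter K) (h1 : 1 < deg χ) :
    deg χ ^ 2 ≤ low K (deg χ) := by
  classical
  obtain ⟨k, hk⟩ := IsPGroup.iff_card.mp hK
  have hpow : ∀ ψ : Cfsg.IrrCharacter K, ∃ j, deg ψ = p ^ j := fun ψ => by
    have := degree_dvd_card ψ.2 (apply_one ψ)
    rw [hk, Nat.dvd_prime_pow hp.out] at this
    obtain ⟨j, -, hj⟩ := this
    exact ⟨j, hj⟩
  obtain ⟨a, ha⟩ := hpow χ
  have hsum : ∑ ψ : Cfsg.IrrCharacter K, deg ψ ^ 2 = p ^ k := by
    have h := sum_degree_sq (G := K)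
    simp only [apply_one, hk] at h
    exact_mod_cast h
  rw [← Finset.sum_filter_add_sum_filter_not Finset.univ (fun ψ => deg ψ < deg χ)] at hsum
  have hdvd : deg χ ^ 2 ∣ ∑ ψ ∈ Finset.univ.filter (fun ψ => ¬ deg ψ < deg χ), deg ψ ^ 2 :=
    Finset.dvd_sum fun ψ hψ => by
      obtain ⟨j, hj⟩ := hpow ψ
      have := (Finset.mem_filter.mp hψ).2
      rw [hj, ha, not_lt, Nat.pow_le_pow_iff_right hp.out.one_lt] at this
      rw [hj, ha]
      exact pow_dvd_pow_of_dvd (pow_dvd_pow p this) 2
  have hmem : χ ∈ Finset.univ.filter (fun ψ => ¬ deg ψ < deg χ) := by simp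
  have hle := Finset.single_le_sum (f := fun ψ => deg ψ ^ 2) (fun _ _ => Nat.zero_le _) hmem
  have hk2 : deg χ ^ 2 ∣ p ^ k := by
    rw [ha, ← pow_mul]
    refine pow_dvd_pow p ((Nat.pow_le_pow_iff_right hp.out.one_lt).mp ?_)
    rw [pow_mul, ← ha]
    omega
  have h2 : deg χ ^ 2 ∣ low K (deg χ) := by
    rw [← hsum] at hk2
    exact (Nat.dvd_add_left hdvd).mp hk2
  refine Nat.le_of_dvd ?_ h2
  let t : Cfsg.IrrCharacter K := ⟨fun _ => 1, isIrrCharacter_one⟩
  have ht : deg t = 1 := deg_eq (by simp [t])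
  refine lt_of_lt_of_le (show 0 < deg t ^ 2 by rw [ht]; norm_num)
    (Finset.single_le_sum (f := fun ψ => deg ψ ^ 2) (fun _ _ => Nat.zero_le _) ?_)
  simp [ht, h1]

/-- A nilpotent group splits off a Sylow subgroup. -/
theorem exists_split (K : Type u) [Group K] [Finite K] [Group.IsNilpotent K] (p : ℕ)
    [Fact p.Prime] :
    ∃ (A B : Subgroup K) (f : K ≃* A × B), Nat.card A = p ^ (Nat.card K).factorization p ∧
      ¬ p ∣ Nat.card B ∧ ∀ b : B, f b = (1, b) := by
  obtain ⟨P⟩ : Nonempty (Sylow p K) := inferInstance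
  haveI hn : (P : Subgroup K).Normal :=
    Sylow.normal_of_normalizerCondition normalizerCondition_of_isNilpotent P
  obtain ⟨C, hC⟩ := Subgroup.exists_left_complement'_of_coprime (N := (P : Subgroup K))
    P.card_coprime_index
  have hcard : Nat.card C = (P : Subgroup K).index := hC.index_eq_card.symm
  have hpC : ¬ p ∣ Nat.card C := hcard ▸ P.not_dvd_index
  have hcomm : ∀ (a : (P : Subgroup K)) (c : C), (a : K) * c = c * a := fun a c => by
    refine CfsgLib.OddLocal.commute_of_coprime_orderOf _ _ ?_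
    obtain ⟨j, hj⟩ := IsPGroup.iff_orderOf.mp P.isPGroup' a
    rw [Subgroup.orderOf_coe, Subgroup.orderOf_coe, hj]
    exact Nat.Coprime.pow_left _ ((Nat.Prime.coprime_iff_not_dvd Fact.out).mpr
      fun h => hpC (h.trans (orderOf_dvd_natCard c)))
  let g : ↥(P : Subgroup K) × ↥C →* K :=
    { toFun := fun x => (x.1 : K) * x.2
      map_one' := by simp
      map_mul' := fun x y => by
        simp only [Prod.fst_mul, Prod.snd_mul, Subgroup.coe_mul]
        calc (x.1 : K) * y.1 * ((x.2 : K) * y.2) = x.1 * ((y.1 : K) * x.2) * y.2 := by group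
          _ = x.1 * ((x.2 : K) * y.1) * y.2 := by rw [hcomm]
          _ = _ := by group }
  have hg : Function.Bijective g :=
    (hC.symm : Subgroup.IsComplement ((P : Subgroup K) : Set K) (C : Set K))
  refine ⟨P, C, (MulEquiv.ofBijective g hg).symm, P.card_eq_multiplicity, hpC, fun b => ?_⟩
  rw [MulEquiv.symm_apply_eq]
  show (b : K) = ((1 : (P : Subgroup K)) : K) * b
  simp

section Split

variable {K : Type*} [Group K] [Fintype K] {A B : Type*} [Group A] [Fintype A] [Group B] [Fintype B]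
  (f : K ≃* A × B)

/-- The character of a product. -/
noncomputable def pair (x : Cfsg.IrrCharacter A × Cfsg.IrrCharacter B) : Cfsg.IrrCharacter K :=
  ⟨fun k => (x.1 : A → ℂ) (f k).1 * (x.2 : B → ℂ) (f k).2, by
    refine irr_of_norm_one (isCharacter_mul
      (isCharacter_comp (isCharacter_of_isIrr x.1.2) ((MonoidHom.fst A B).comp f.toMonoidHom))
      (isCharacter_comp (isCharacter_of_isIrr x.2.2) ((MonoidHom.snd A B).comp f.toMonoidHom))) ?_
    exact (classInner_comp_mulEquiv f (fun y => (x.1 : A → ℂ) y.1 * (x.2 : B → ℂ) y.2)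
      (fun y => (x.1 : A → ℂ) y.1 * (x.2 : B → ℂ) y.2)).trans
      (classInner_irr_self (isIrr_prod x.1.2 x.2.2))⟩

theorem deg_pair (x : Cfsg.IrrCharacter A × Cfsg.IrrCharacter B) :
    deg (pair f x) = deg x.1 * deg x.2 :=
  deg_eq (show (x.1 : A → ℂ) (f 1).1 * (x.2 : B → ℂ) (f 1).2 = _ by
    rw [map_one, Prod.fst_one, Prod.snd_one, apply_one, apply_one, Nat.cast_mul])

theorem pair_injective : Function.Injective (pair f) := by
  classical
  intro x y h
  have h1 : (fun z : A × B => (x.1 : A → ℂ) z.1 * (x.2 : B → ℂ) z.2) =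
      fun z : A × B => (y.1 : A → ℂ) z.1 * (y.2 : B → ℂ) z.2 := funext fun z => by
    simpa [pair] using congrFun (congrArg Subtype.val h) (f.symm z)
  have h2 := classInner_prod (x.1 : A → ℂ) (y.1 : A → ℂ) (x.2 : B → ℂ) (y.2 : B → ℂ)
  rw [← h1, classInner_irr_self (isIrr_prod x.1.2 x.2.2), classInner_irrCharacter,
    classInner_irrCharacter] at h2
  refine Prod.ext ?_ ?_ <;> by_contra hne <;> simp [if_neg hne] at h2

theorem pair_surjective : Function.Surjective (pair f) := by
  intro χ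
  have hirr : Cfsg.IsIrrCharacter (A × B) (fun z => (χ : K → ℂ) (f.symm z)) := by
    refine irr_of_norm_one (isCharacter_comp (isCharacter_of_isIrr χ.2) f.symm.toMonoidHom) ?_
    exact (classInner_comp_mulEquiv f.symm (χ : K → ℂ) (χ : K → ℂ)).trans (classInner_irr_self χ.2)
  obtain ⟨φ, ψ, hφ, hψ, h⟩ := (isIrr_prod_iff _).mp hirr
  refine ⟨(⟨φ, hφ⟩, ⟨ψ, hψ⟩), Subtype.ext (funext fun k => ?_)⟩
  simpa [pair] using (congrFun h (f k)).symm

include f in
/-- The lower degrees of a product. -/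
theorem low_pair (a b : ℕ) (ha : 0 < a) (hb : 0 < b) :
    low A a * low B b + low A a * lev B b + lev A a * low B b ≤ low K (a * b) := by
  classical
  set sA := Finset.univ.filter (fun χ : Cfsg.IrrCharacter A => deg χ < a)
  set sA' := Finset.univ.filter (fun χ : Cfsg.IrrCharacter A => deg χ = a)
  set sB := Finset.univ.filter (fun χ : Cfsg.IrrCharacter B => deg χ < b)
  set sB' := Finset.univ.filter (fun χ : Cfsg.IrrCharacter B => deg χ = b)
  have hd : Disjoint (sA ×ˢ sB) (sA ×ˢ sB') := by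
    rw [Finset.disjoint_left]
    intro x h h'
    simp [sA, sB, sB'] at h h'
    omega
  have hd' : Disjoint (sA ×ˢ sB ∪ sA ×ˢ sB') (sA' ×ˢ sB) := by
    rw [Finset.disjoint_left]
    intro x h h'
    simp [sA, sA', sB, sB'] at h h'
    omega
  have hprod : ∀ (s : Finset (Cfsg.IrrCharacter A)) (t : Finset (Cfsg.IrrCharacter B)),
      (∑ χ ∈ s, deg χ ^ 2) * (∑ ψ ∈ t, deg ψ ^ 2) = ∑ x ∈ s ×ˢ t, deg (pair f x) ^ 2 := by
    intro s t
    rw [Finset.sum_mul_sum, Finset.sum_product]
    exact Finset.sum_congr rfl fun x _ => Finset.sum_congr rfl fun y _ => by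
      rw [deg_pair, mul_pow]
  show (∑ χ ∈ sA, deg χ ^ 2) * (∑ ψ ∈ sB, deg ψ ^ 2) +
    (∑ χ ∈ sA, deg χ ^ 2) * (∑ ψ ∈ sB', deg ψ ^ 2) +
    (∑ χ ∈ sA', deg χ ^ 2) * (∑ ψ ∈ sB, deg ψ ^ 2) ≤ _
  rw [hprod, hprod, hprod, ← Finset.sum_union hd, ← Finset.sum_union hd',
    ← Finset.sum_image (f := fun χ => deg χ ^ 2) (pair_injective f).injOn]
  refine Finset.sum_le_sum_of_subset fun χ hχ => ?_
  obtain ⟨x, hx, rfl⟩ := Finset.mem_image.mp hχ
  simp [sA, sA', sB, sB'] at hx
  simp only [Finset.mem_filter, Finset.mem_univ, true_and, deg_pair]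
  rcases hx with ⟨h1, h2⟩ | ⟨h1, h2⟩ | ⟨h1, h2⟩
  · exact Nat.mul_lt_mul'' h1 h2
  · exact Nat.mul_lt_mul_of_lt_of_le h1 h2.le hb
  · exact Nat.mul_lt_mul_of_le_of_lt h1.le h2 ha

include f in
theorem lev_one_pair : lev A 1 * lev B 1 = lev K 1 := by
  classical
  simp only [lev]
  rw [Finset.sum_mul_sum, ← Finset.sum_product']
  refine Finset.sum_bij (fun x _ => pair f x) ?_ (fun x _ y _ h => pair_injective f h) ?_ ?_
  · intro x hx
    simp at hx
    simp [deg_pair, hx.1, hx.2]
  · intro χ hχ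
    obtain ⟨x, rfl⟩ := pair_surjective f χ
    simp [deg_pair] at hχ
    exact ⟨x, by simp [hχ.1, hχ.2], rfl⟩
  · intro x _
    rw [deg_pair, mul_pow]

end Split

/-- In a nilpotent group the sum of the squares of the smaller degrees is at least the square. -/
theorem sq_le_low (K : Type u) [Group K] [Fintype K] [hK : Group.IsNilpotent K]
    (χ : Cfsg.IrrCharacter K) (h1 : 1 < deg χ) : deg χ ^ 2 ≤ low K (deg χ) := by
  classical
  induction hn : Nat.card K using Nat.strong_induction_on generalizing K with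
  | _ n ih =>
    subst hn
    obtain ⟨p, hp, hpK⟩ := Nat.exists_prime_and_dvd (n := Nat.card K) (by
      intro h
      have := Nat.le_of_dvd Nat.card_pos (degree_dvd_card χ.2 (apply_one χ))
      omega)
    haveI := Fact.mk hp
    obtain ⟨A, B, f, hA, hB, -⟩ := exists_split K p
    by_cases hB1 : Nat.card B = 1
    · refine sq_le_low_pgroup (p := p) (IsPGroup.of_card (n := (Nat.card K).factorization p) ?_) χ h1
      rw [← hA, Nat.card_congr f.toEquiv, Nat.card_prod, hB1, mul_one]
    haveI := Fintype.ofFinite A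
    haveI := Fintype.ofFinite B
    obtain ⟨⟨φ, ψ⟩, rfl⟩ := pair_surjective f χ
    rw [deg_pair] at h1 ⊢
    have hA1 : 1 < Nat.card A := by
      rw [hA]
      exact Nat.one_lt_pow (hp.factorization_pos_of_dvd Nat.card_pos.ne' hpK).ne' hp.one_lt
    have hKc : Nat.card K = Nat.card A * Nat.card B := by
      rw [Nat.card_congr f.toEquiv, Nat.card_prod]
    have hBpos : 0 < Nat.card B := Nat.card_pos
    have ha := deg_pos φ
    have hb := deg_pos ψ
    refine le_trans ?_ (low_pair f _ _ ha hb)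
    have eA := sq_le_lev φ
    have eB := sq_le_lev ψ
    rw [mul_pow]
    rcases Nat.lt_or_ge 1 (deg φ) with h | h
    · have := ih _ (by rw [hKc]; exact lt_mul_of_one_lt_right (by omega) (by omega)) A φ h rfl
      nlinarith [Nat.mul_le_mul this eB]
    · have hφ : deg φ = 1 := by omega
      rw [hφ, one_mul] at h1
      have := ih _ (by rw [hKc]; exact lt_mul_of_one_lt_left hBpos hA1) B ψ h1 rfl
      nlinarith [Nat.mul_le_mul eA this]

/-- The number of linear characters trivial on the elements of order prime to `p`. -/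
noncomputable def linP (K : Type*) [Group K] (p : ℕ) : ℕ :=
  Nat.card {χ : Cfsg.IrrCharacter K // deg χ = 1 ∧
    ∀ k : K, ¬ p ∣ orderOf k → (χ : K → ℂ) k = 1}

/-- The linear characters trivial on the second factor. -/
theorem linP_eq {K A B : Type*} [Group K] [Fintype K] [Group A] [Fintype A] [Group B] [Fintype B]
    (f : K ≃* A × B) {p : ℕ} [Fact p.Prime] (hA : IsPGroup p A) (hB : ¬ p ∣ Nat.card B) :
    linP K p = lev A 1 := by
  classical
  let t : Cfsg.IrrCharacter B := ⟨fun _ => 1, isIrrCharacter_one⟩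
  have ht : deg t = 1 := deg_eq (by simp [t])
  rw [lev, Finset.sum_congr rfl fun χ hχ => by rw [(Finset.mem_filter.mp hχ).2, one_pow],
    ← Finset.card_eq_sum_ones, ← Fintype.card_subtype, ← Nat.card_eq_fintype_card, linP]
  refine (Nat.card_eq_of_bijective (fun φ : {φ : Cfsg.IrrCharacter A // deg φ = 1} =>
    (⟨pair f (φ.1, t), ?_, ?_⟩ : {χ : Cfsg.IrrCharacter K // deg χ = 1 ∧
      ∀ k : K, ¬ p ∣ orderOf k → (χ : K → ℂ) k = 1})) ⟨?_, ?_⟩).symm
  · rw [deg_pair, φ.2, ht]
  · intro k hk
    have h1 : (f k).1 = 1 := by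
      have h2 : orderOf (f k).1 ∣ orderOf k := by
        rw [← MulEquiv.orderOf_eq f k]
        exact orderOf_map_dvd (MonoidHom.fst A B) (f k)
      obtain ⟨j, hj⟩ := IsPGroup.iff_orderOf.mp hA (f k).1
      rcases Nat.eq_zero_or_pos j with rfl | hj0
      · rwa [pow_zero, orderOf_eq_one_iff] at hj
      · exact absurd ((dvd_pow_self p hj0.ne').trans (hj ▸ h2)) hk
    simp only [pair, h1, t, mul_one]
    rw [apply_one φ.1, φ.2, Nat.cast_one]
  · intro φ ψ h
    exact Subtype.ext (congrArg Prod.fst (pair_injective f (congrArg Subtype.val h)))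
  · rintro ⟨χ, hχ1, hχ⟩
    obtain ⟨⟨φ, ψ⟩, rfl⟩ := pair_surjective f χ
    rw [deg_pair, mul_eq_one] at hχ1
    refine ⟨⟨φ, hχ1.1⟩, Subtype.ext (congrArg (pair f) (Prod.ext rfl ?_))⟩
    refine Subtype.ext (funext fun b => ?_)
    have h := hχ (f.symm (1, b)) (by
      rw [MulEquiv.orderOf_eq f.symm, Prod.orderOf_mk, orderOf_one, Nat.lcm_one_left]
      exact fun h => hB (h.trans (orderOf_dvd_natCard b)))
    simp only [pair, MulEquiv.apply_symm_apply, apply_one φ, hχ1.1, Nat.cast_one, one_mul] at h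
    exact h.symm

/-- Linear characters trivial on the second factor are bounded by those of it for other primes. -/
theorem linP_le {K A B : Type*} [Group K] [Fintype K] [Group A] [Fintype A] [Group B] [Fintype B]
    (f : K ≃* A × B) {p q : ℕ} (hp : p.Prime) (hq : q.Prime) (hpq : q ≠ p) (hA : IsPGroup p A) :
    linP K q ≤ lev B 1 := by
  classical
  haveI := Fact.mk hp
  rw [lev, Finset.sum_congr rfl fun χ hχ => by rw [(Finset.mem_filter.mp hχ).2, one_pow],
    ← Finset.card_eq_sum_ones, ← Fintype.card_subtype, ← Nat.card_eq_fintype_card, linP]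
  choose x hx using pair_surjective f
  refine Nat.card_le_card_of_injective (fun χ => ⟨(x χ.1).2, ?_⟩) fun χ χ' h => ?_
  · have := χ.2.1
    rw [← hx χ.1, deg_pair, mul_eq_one] at this
    exact this.2
  · have htriv : ∀ η : {χ : Cfsg.IrrCharacter K // deg χ = 1 ∧
        ∀ k : K, ¬ q ∣ orderOf k → (χ : K → ℂ) k = 1}, ∀ a : A,
        ((x η.1).1 : A → ℂ) a = 1 := by
      intro η a
      have h1 := η.2.1
      rw [← hx η.1, deg_pair, mul_eq_one] at h1
      obtain ⟨j, hj⟩ := IsPGroup.iff_orderOf.mp hA a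
      have h := η.2.2 (f.symm (a, 1)) (by
        rw [MulEquiv.orderOf_eq f.symm, Prod.orderOf_mk, orderOf_one, Nat.lcm_one_right, hj]
        exact fun h => hpq ((Nat.prime_dvd_prime_iff_eq hq hp).mp (hq.dvd_of_dvd_pow h)))
      rw [← hx η.1] at h
      simpa [pair, apply_one, h1.2] using h
    refine Subtype.ext ((hx χ.1).symm.trans ((congrArg (pair f) (Prod.ext ?_ ?_)).trans (hx χ'.1)))
    · exact Subtype.ext (funext fun a => (htriv χ a).trans (htriv χ' a).symm)
    · exact congrArg Subtype.val h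

/-- The bounds for a nilpotent group whose primary abelianizations are large. -/
theorem low_big (K : Type u) [Group K] [Fintype K] [hK : Group.IsNilpotent K] {e : ℕ}
    (he : Odd e) (hdiv : ∀ p : ℕ, p.Prime → p ∣ Nat.card K → 1 < linP K p ∧ e ∣ linP K p - 1)
    (hnp : ¬ IsPrimePow (Nat.card K)) (hK1 : 1 < Nat.card K) :
    (e + 1) * (2 * e + 1) ≤ (commutator K).index ∧
      ∀ χ : Cfsg.IrrCharacter K, 1 < deg χ → e * (2 * deg χ + 1) + 1 < low K (deg χ) := by
  classical
  obtain ⟨p, hp, hpK⟩ := Nat.exists_prime_and_dvd (n := Nat.card K) (by omega)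
  haveI := Fact.mk hp
  obtain ⟨A, B, f, hA, hB, -⟩ := exists_split K p
  haveI := Fintype.ofFinite A
  haveI := Fintype.ofFinite B
  haveI : Group.IsNilpotent B := Subgroup.isNilpotent B
  have hKc : Nat.card K = Nat.card A * Nat.card B := by
    rw [Nat.card_congr f.toEquiv, Nat.card_prod]
  have hk0 := (hp.factorization_pos_of_dvd Nat.card_pos.ne' hpK).ne'
  have hAp : IsPGroup p A := IsPGroup.of_card hA
  obtain ⟨q, hq, hqB⟩ := Nat.exists_prime_and_dvd (n := Nat.card B) (fun h => hnp (by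
    rw [hKc, h, mul_one, hA]; exact hp.isPrimePow.pow hk0))
  have hqp : q ≠ p := fun h => hB (h ▸ hqB)
  haveI := Fact.mk hq
  have hLA : linP K p = lev A 1 := linP_eq f hAp hB
  have hLB : linP K q ≤ lev B 1 := linP_le f hp hq hqp hAp
  have hbig : ∀ r : ℕ, r.Prime → r ∣ Nat.card K → e + 1 ≤ linP K r ∧
      (r ≠ 2 → 2 * e + 1 ≤ linP K r) := by
    intro r hr hrK
    obtain ⟨h1, k, hk⟩ := hdiv r hr hrK
    haveI := Fact.mk hr
    refine ⟨?_, fun hr2 => ?_⟩
    · rcases Nat.eq_zero_or_pos k with rfl | hk0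
      · simp at hk; omega
      · have := Nat.le_mul_of_pos_right e hk0
        omega
    · obtain ⟨A', B', f', hA', hB', -⟩ := exists_split K r
      haveI := Fintype.ofFinite A'
      haveI := Fintype.ofFinite B'
      have hodd : Odd (linP K r) := by
        rw [linP_eq f' (IsPGroup.of_card hA') hB', lev_one]
        have := (commutator A').index_dvd_card
        rw [hA'] at this
        exact ((hr.odd_of_ne_two hr2).pow).of_dvd_nat this
      have hk2 : 2 ∣ k := by
        obtain ⟨m, hm⟩ := hodd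
        obtain ⟨E, hE⟩ := he
        have h2 : 2 ∣ e * k := ⟨m, by omega⟩
        rcases (Nat.Prime.dvd_mul Nat.prime_two).mp h2 with h | h
        · omega
        · exact h
      obtain ⟨j, rfl⟩ := hk2
      rcases Nat.eq_zero_or_pos j with rfl | hj0
      · simp at hk; omega
      · have := Nat.le_mul_of_pos_right (2 * e) hj0
        rw [← mul_assoc, mul_comm e 2] at hk
        omega
  obtain ⟨hA1, hA2⟩ := hbig p hp hpK
  obtain ⟨hB1, hB2⟩ := hbig q hq (hKc ▸ dvd_mul_of_dvd_right hqB _)
  rw [hLA] at hA1 hA2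
  have hB1' : e + 1 ≤ lev B 1 := hB1.trans hLB
  have hB2' : q ≠ 2 → 2 * e + 1 ≤ lev B 1 := fun h => (hB2 h).trans hLB
  refine ⟨?_, fun χ h1 => ?_⟩
  · rw [← lev_one, ← lev_one_pair f]
    rcases eq_or_ne p 2 with rfl | hp2
    · exact Nat.mul_le_mul hA1 (hB2' hqp)
    · rw [mul_comm (e + 1)]
      exact Nat.mul_le_mul (hA2 hp2) hB1'
  obtain ⟨⟨φ, ψ⟩, rfl⟩ := pair_surjective f χ
  rw [deg_pair] at h1 ⊢
  have ha := deg_pos φ
  have hb := deg_pos ψ
  refine lt_of_lt_of_le ?_ (low_pair f _ _ ha hb)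
  have eA := sq_le_lev φ
  have eB := sq_le_lev ψ
  set a := deg φ with hadef
  set b := deg ψ with hbdef
  rcases Nat.lt_or_ge 1 a with h | h
  · have sA := sq_le_low A φ h
    have lA := hA1.trans (lev_one_le_low A h)
    rcases Nat.lt_or_ge 1 b with h' | h'
    · have sB := sq_le_low B ψ h'
      have lB := hB1'.trans (lev_one_le_low B h')
      have t1 := Nat.mul_le_mul lA lB
      have t2 := Nat.mul_le_mul lA eB
      have t3 := Nat.mul_le_mul eA lB
      have t4 := two_mul_le_add_sq a b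
      nlinarith [Nat.mul_le_mul_left (e + 1) t4]
    · have hb1 : b = 1 := by omega
      rw [hb1] at eB ⊢
      rcases Nat.lt_or_ge 2 a with h3 | h3
      · have t1 := Nat.mul_le_mul sA hB1'
        have t2 := Nat.mul_le_mul_right (e + 1) (Nat.mul_le_mul (show 3 ≤ a by omega) (le_refl a))
        have t3 := Nat.le_mul_of_pos_left e ha
        rw [← hadef] at t1
        rw [pow_two] at t1
        linarith [Nat.zero_le (low A a * low B 1), Nat.zero_le (lev A a * low B 1)]
      · have ha2 : a = 2 := by omega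
        have hp2 : p = 2 := by
          have h := degree_dvd_card φ.2 (apply_one φ)
          rw [← hadef, ha2, hA] at h
          exact ((Nat.prime_dvd_prime_iff_eq Nat.prime_two hp).mp (Nat.prime_two.dvd_of_dvd_pow h)).symm
        rw [← hadef, ha2] at sA
        rw [ha2]
        linarith [Nat.mul_le_mul sA (hB2' (hp2 ▸ hqp)), Nat.zero_le (low A 2 * low B 1), Nat.zero_le (lev A 2 * low B 1)]
  · have ha1 : a = 1 := by omega
    rw [ha1, one_mul] at h1
    have sB := sq_le_low B ψ h1
    rw [ha1] at eA ⊢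
    rw [← hbdef] at sB
    rcases Nat.lt_or_ge 2 b with h3 | h3
    · have t1 := Nat.mul_le_mul hA1 sB
      have t2 := Nat.mul_le_mul_left (e + 1) (Nat.mul_le_mul (show 3 ≤ b by omega) (le_refl b))
      have t3 := Nat.le_mul_of_pos_left e hb
      rw [pow_two] at t1
      rw [one_mul]
      linarith [Nat.zero_le (low A 1 * low B b), Nat.zero_le (low A 1 * lev B b)]
    · have hb2 : b = 2 := by omega
      have hp2 : p ≠ 2 := fun hp2 => hB (by
        have h := degree_dvd_card ψ.2 (apply_one ψ)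
        rwa [← hbdef, hb2, ← hp2] at h)
      rw [hb2] at sB ⊢
      linarith [Nat.mul_le_mul (hA2 hp2) sB, Nat.zero_le (low A 1 * low B 2), Nat.zero_le (low A 1 * lev B 2)]

end CfsgLib.FeitZass
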