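import Cfsg.Agent.Lib.FeitZass.Degree
import Cfsg.Agent.Lib.FeitZass.Nilpotent
import Cfsg.Agent.Lib.OddChar.FrobeniusKernelChars
import Cfsg.Agent.Lib.OddChar.IrrKernel
import Cfsg.Agent.Lib.Char.BrolineGarrison

/-!
# An abelian kernel from Feit's degree argument
-/

set_option autoImplicit false

namespace CfsgLib.FeitZass

open CfsgLib.Char CfsgLib.CharNormal

variable {G : Type*} [Group G] [Fintype G] (N K : Subgroup G) [Fintype N]
  [hKn : (K.subgroupOf N).Normal] [Fintype (K.subgroupOf N)]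

section Fibres

variable (hC : ∀ k ∈ K.subgroupOf N, k ≠ 1 →
  Subgroup.centralizer ({k} : Set N) ≤ K.subgroupOf N)

omit [Fintype G] in
include hC in
/-- Induction of nonprincipal characters of the kernel: the fibres have size the index. -/
theorem exists_induce :
    ∃ F : Cfsg.IrrCharacter (K.subgroupOf N) → Cfsg.IrrCharacter N,
      (∀ ψ : Cfsg.IrrCharacter (K.subgroupOf N), (ψ : K.subgroupOf N → ℂ) ≠ (fun _ => 1) →
        (F ψ : N → ℂ) = Cfsg.indFun (K.subgroupOf N) (ψ : K.subgroupOf N → ℂ) ∧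
        IsRelevant (K.subgroupOf N) (F ψ : N → ℂ) ∧
        (F ψ : N → ℂ) 1 = (((K.subgroupOf N).index * deg ψ : ℕ) : ℂ)) ∧
      ∀ χ : Cfsg.IrrCharacter N, IsRelevant (K.subgroupOf N) (χ : N → ℂ) →
        Nat.card {ψ : Cfsg.IrrCharacter (K.subgroupOf N) //
          (ψ : K.subgroupOf N → ℂ) ≠ (fun _ => 1) ∧ F ψ = χ} = (K.subgroupOf N).index := by
  classical
  set M := K.subgroupOf N
  have hirr := fun (ψ : Cfsg.IrrCharacter M) (h : (ψ : M → ℂ) ≠ fun _ => 1) =>
    CfsgLib.OddChar.FrobeniusKernelChars.isIrr_indFun_kernel M hC ψ.2 h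
  let F : Cfsg.IrrCharacter M → Cfsg.IrrCharacter N := fun ψ =>
    if h : (ψ : M → ℂ) ≠ fun _ => 1 then ⟨Cfsg.indFun M (ψ : M → ℂ), hirr ψ h⟩
    else ⟨fun _ => 1, isIrrCharacter_one⟩
  have hF : ∀ ψ : Cfsg.IrrCharacter M, (ψ : M → ℂ) ≠ (fun _ => 1) →
      (F ψ : N → ℂ) = Cfsg.indFun M (ψ : M → ℂ) := fun ψ h => by simp only [F, dif_pos h]
  have hinner : ∀ (ψ : Cfsg.IrrCharacter M) (χ : Cfsg.IrrCharacter N),
      Cfsg.classInner (ψ : M → ℂ) (fun m : M => (χ : N → ℂ) m) =
        Cfsg.classInner (Cfsg.indFun M (ψ : M → ℂ)) (χ : N → ℂ) := fun ψ χ =>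
    (frobenius_reciprocity M _ (isClassFunction_of_isIrr χ.2)).symm
  have hrel : ∀ ψ : Cfsg.IrrCharacter M, (ψ : M → ℂ) ≠ (fun _ => 1) →
      IsRelevant M (F ψ : N → ℂ) := by
    intro ψ h
    by_contra hn
    rw [not_relevant_iff] at hn
    have h1 := hinner ψ (F ψ)
    rw [← hF ψ h, classInner_irr_self (F ψ).2,
      show (fun m : M => (F ψ : N → ℂ) m) = (F ψ : N → ℂ) 1 • fun _ : M => (1 : ℂ) from
        funext fun m => by simp [hn m m.2],
      classInner_smul_right, classInner_irr_ne ψ.2 isIrrCharacter_one h, mul_zero] at h1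
    exact zero_ne_one h1
  refine ⟨F, fun ψ h => ⟨hF ψ h, hrel ψ h, by
    rw [hF ψ h, indFun_one, apply_one, Nat.cast_mul]⟩, fun χ hχ => ?_⟩
  obtain ⟨m, -, hmi⟩ := char_decomp (isCharacter_res M (isCharacter_of_isIrr χ.2))
  have hnorm : Cfsg.classInner (fun x : M => (χ : N → ℂ) x) (fun x : M => (χ : N → ℂ) x) =
      (M.index : ℂ) := by
    have h1 := classInner_irr_self χ.2
    rw [classInner_def, ← Finset.sum_subset
      (Finset.subset_univ (Finset.univ.filter fun x => x ∈ M)) (fun x _ hx => by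
        rw [relevant_apply_eq_zero M hC χ.2 hχ (by simpa using hx), zero_mul]),
      Finset.sum_subtype _ (p := fun x => x ∈ M) (fun x => by simp)
        (fun x => (χ : N → ℂ) x * (starRingEnd ℂ) ((χ : N → ℂ) x)),
      ← M.index_mul_card, Nat.cast_mul, mul_inv, mul_assoc] at h1
    rw [classInner_def]
    have h0 : (M.index : ℂ) ≠ 0 := by exact_mod_cast Subgroup.index_ne_zero_of_finite
    rw [inv_mul_eq_iff_eq_mul₀ h0, mul_one] at h1
    exact h1
  have hm2 : ∑ ψ : Cfsg.IrrCharacter M, m ψ ^ 2 = M.index := by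
    have h := classInner_eq_sum (f := fun x : M => (χ : N → ℂ) x)
      (f' := fun x : M => (χ : N → ℂ) x)
      (isClassFunction_of_isCharacter (isCharacter_res M (isCharacter_of_isIrr χ.2)))
    rw [hnorm] at h
    simp only [hmi, map_natCast, ← Nat.cast_mul, ← Nat.cast_sum] at h
    simp only [pow_two]
    exact_mod_cast h.symm
  have hm : ∀ ψ : Cfsg.IrrCharacter M,
      m ψ = if (ψ : M → ℂ) ≠ (fun _ => 1) ∧ F ψ = χ then 1 else 0 := by
    intro ψ
    by_cases h : (ψ : M → ℂ) = fun _ => 1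
    · rw [if_neg (fun h' => h'.1 h)]
      by_contra h0
      obtain ⟨k, hk, hkne⟩ := hχ
      refine hkne (CfsgLib.CharNormal.res_eq_degree_of_constituent_one M χ.2 ?_ k hk)
      rw [← h, hmi ψ]
      exact_mod_cast h0
    · have h1 := hinner ψ χ
      rw [← hF ψ h, ← classInner_conj_symm, hmi ψ, map_natCast, classInner_irrCharacter] at h1
      by_cases he : F ψ = χ
      · rw [if_pos ⟨h, he⟩]
        rw [if_pos he] at h1
        exact_mod_cast h1
      · rw [if_neg (fun h' => he h'.2)]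
        rw [if_neg he] at h1
        exact_mod_cast h1
  rw [← hm2, Nat.card_eq_fintype_card, Fintype.card_subtype, Finset.card_filter]
  exact Finset.sum_congr rfl fun ψ _ => by rw [hm ψ]; split_ifs <;> rfl

end Fibres

variable (hTI : ∀ g : G, g ∉ N → ∀ k ∈ K, g * k * g⁻¹ ∈ K → k = 1)
  (hC : ∀ k ∈ K, k ≠ 1 → Subgroup.centralizer ({k} : Set G) ≤ K)
  (hKN : K ≤ N) (hidx : N.index = Nat.card K + 1)

omit [Fintype G] in
include hC in
/-- The linear characters trivial on the elements of order prime to `p` come in full fibres. -/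
theorem index_dvd_linP (p : ℕ) :
    (K.subgroupOf N).index ∣ linP (K.subgroupOf N) p - 1 := by
  classical
  have hC' := centralizer_subgroupOf_le K hC N
  set M := K.subgroupOf N
  obtain ⟨F, hF, hfib⟩ : ∃ F : Cfsg.IrrCharacter M → Cfsg.IrrCharacter N, _ := exists_induce N K hC'
  let P : Cfsg.IrrCharacter M → Prop := fun ψ =>
    deg ψ = 1 ∧ ∀ k : M, ¬ p ∣ orderOf k → (ψ : M → ℂ) k = 1
  let one : Cfsg.IrrCharacter M := ⟨fun _ => 1, isIrrCharacter_one⟩
  set S := (Finset.univ.filter P).erase one with hS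
  have hPone : P one := ⟨deg_eq (by simp [one]), fun _ _ => rfl⟩
  have hScard : S.card = linP M p - 1 := by
    rw [hS, Finset.card_erase_of_mem (Finset.mem_filter.mpr ⟨Finset.mem_univ _, hPone⟩), linP,
      ← Fintype.card_subtype, ← Nat.card_eq_fintype_card]
  have hne : ∀ {ψ}, ψ ∈ S → (ψ : Cfsg.IrrCharacter M).1 ≠ fun _ => 1 := fun h e =>
    (Finset.mem_erase.mp h).1 (Subtype.ext e)
  rw [← hScard, Finset.card_eq_sum_card_fiberwise (f := F) (t := S.image F)
    (fun x hx => Finset.mem_image_of_mem F hx)]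
  refine Finset.dvd_sum fun χ hχ => dvd_of_eq ?_
  obtain ⟨ψ₀, hψ₀, rfl⟩ := Finset.mem_image.mp hχ
  obtain ⟨hind, hrel, hone⟩ := hF ψ₀ (hne hψ₀)
  rw [← hfib _ hrel, Nat.card_eq_fintype_card, Fintype.card_subtype]
  refine congrArg Finset.card (Finset.ext fun ψ => ?_)
  simp only [Finset.mem_filter, Finset.mem_univ, true_and]
  refine ⟨fun ⟨hψ, hψF⟩ => ?_, fun h => ⟨hne h.1, h.2⟩⟩
  obtain ⟨hind', -, hone'⟩ := hF ψ hψ
  obtain ⟨hd0, htriv⟩ := (Finset.mem_filter.mp (Finset.mem_of_mem_erase hψ₀)).2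
  have hdeg : deg ψ = 1 := by
    rw [← hd0]
    have := hone'.symm.trans ((congrArg (fun χ : Cfsg.IrrCharacter N => (χ : N → ℂ) 1) hψF).trans hone)
    rw [Nat.cast_inj] at this
    exact Nat.eq_of_mul_eq_mul_left (Nat.pos_of_ne_zero Subgroup.index_ne_zero_of_finite) this
  refine ⟨Finset.mem_erase.mpr ⟨fun e => hψ (congrArg Subtype.val e),
    Finset.mem_filter.mpr ⟨Finset.mem_univ _, hdeg, fun k hk => ?_⟩⟩, hψF⟩
  -- `F ψ` is trivial at the conjugates of `k`
  have hval : (F ψ₀ : N → ℂ) k = (F ψ₀ : N → ℂ) 1 := by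
    rw [hind, indFun_apply, indFun_apply]
    congr 1
    refine Finset.sum_congr rfl fun y _ => ?_
    have hmem : y⁻¹ * (k : N) * y ∈ M := by simpa using hKn.conj_mem _ k.2 y⁻¹
    rw [extendByZero_of_mem _ hmem, extendByZero_of_mem _ (by simp [M.one_mem]),
      htriv _ ?_, htriv _ ?_]
    · rw [← Subgroup.orderOf_coe]
      simp only [mul_one, inv_mul_cancel, orderOf_one]
      intro h1
      exact hk (by rw [Nat.dvd_one.mp h1]; exact one_dvd _)
    · rw [← Subgroup.orderOf_coe]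
      show ¬ p ∣ orderOf (y⁻¹ * (k : N) * y)
      rwa [show y⁻¹ * (k : N) * y = MulAut.conj y⁻¹ (k : N) by simp, MulEquiv.orderOf_eq,
        Subgroup.orderOf_coe]
  have hc : Cfsg.classInner (fun m : M => (F ψ₀ : N → ℂ) m) (ψ : M → ℂ) ≠ 0 := by
    rw [← classInner_conj_symm, ← frobenius_reciprocity M _ (isClassFunction_of_isIrr (F ψ₀).2),
      ← hind', hψF, classInner_irr_self (F ψ₀).2, map_one]
    exact one_ne_zero
  have h := CfsgLib.Broline.constituent_apply_eq (isCharacter_res M (isCharacter_of_isIrr (F ψ₀).2)) ψ.2 hc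
    (g := k) hval
  rwa [apply_one, hdeg, Nat.cast_one] at h

omit [Fintype (K.subgroupOf N)] in
include hC hKN in
/-- A character of a simple group extending a least relevant character makes the kernel abelian. -/
theorem comm_of_extension [IsSimpleGroup G] [Fintype (K.subgroupOf N)] {lam : Cfsg.IrrCharacter N}
    (hlr : IsRelevant (K.subgroupOf N) (lam : N → ℂ))
    (hdeg : (lam : N → ℂ) 1 = (((K.subgroupOf N).index : ℕ) : ℂ)) {Θ : Cfsg.IrrCharacter G}
    (hΘ1 : (Θ : G → ℂ) ≠ fun _ => 1) (hΘ : ∀ x : N, (Θ : G → ℂ) x = (lam : N → ℂ) x) :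
    ∀ u ∈ K, ∀ v ∈ K, u * v = v * u := by
  classical
  have hC' := centralizer_subgroupOf_le K hC N
  set M := K.subgroupOf N
  obtain ⟨θ, hθ, hθind⟩ := exists_eq_indFun_of_relevant M hC' lam.2 hlr
  have hθ1 : θ 1 = 1 := by
    have h := hdeg
    rw [hθind, indFun_one] at h
    exact mul_left_cancel₀ (by exact_mod_cast Subgroup.index_ne_zero_of_finite : (M.index : ℂ) ≠ 0)
      (h.trans (mul_one _).symm)
  have hmul := linear_map_mul (isCharacter_of_isIrr hθ) hθ1
  intro u hu v hv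
  let u' : M := ⟨⟨u, hKN hu⟩, hu⟩
  let v' : M := ⟨⟨v, hKN hv⟩, hv⟩
  let c : M := u' * v' * u'⁻¹ * v'⁻¹
  have hcval : ∀ a b : M, θ (a * b * a⁻¹ * b⁻¹) = 1 := fun a b => by
    rw [hmul, hmul, hmul, mul_assoc (θ a * θ b), mul_mul_mul_comm, ← hmul a, ← hmul b, mul_inv_cancel,
      mul_inv_cancel, hθ1, one_mul]
  have hker : (Θ : G → ℂ) ((c : N) : G) = (Θ : G → ℂ) 1 := by
    rw [← OneMemClass.coe_one N, hΘ, hΘ, hθind, indFun_apply, indFun_apply]
    congr 1
    refine Finset.sum_congr rfl fun y _ => ?_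
    have hmem : y⁻¹ * (c : N) * y ∈ M := by simpa using hKn.conj_mem _ c.2 y⁻¹
    rw [extendByZero_of_mem _ hmem, extendByZero_of_mem _ (by simp [M.one_mem])]
    let f : M → M := fun a => ⟨y⁻¹ * (a : N) * y, by simpa using hKn.conj_mem _ a.2 y⁻¹⟩
    have e1 : (⟨y⁻¹ * (c : N) * y, hmem⟩ : M) = f u' * f v' * (f u')⁻¹ * (f v')⁻¹ := by
      apply Subtype.ext
      simp only [f, c, Subgroup.coe_mul, Subgroup.coe_inv]
      group
    rw [e1, hcval]
    exact hθ1.symm.trans (congrArg θ (Subtype.ext (by simp)))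
  have hbot : charKer (isCharacter_of_isIrr Θ.2) = ⊥ := by
    refine ((charKer_normal (isCharacter_of_isIrr Θ.2)).eq_bot_or_eq_top).resolve_right fun htop => ?_
    have hall : ∀ g : G, (Θ : G → ℂ) g = (Θ : G → ℂ) 1 := fun g =>
      mem_charKer.mp (htop ▸ Subgroup.mem_top g)
    have h0 := classInner_irr_ne Θ.2 isIrrCharacter_one hΘ1
    rw [show (Θ : G → ℂ) = (Θ : G → ℂ) 1 • fun _ => (1 : ℂ) from
      funext fun g => by simp [hall g], classInner_smul_left,
      classInner_irr_self isIrrCharacter_one, mul_one] at h0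
    exact irr_one_ne_zero Θ.2 h0
  have h1 : ((c : N) : G) = 1 := by
    rw [← Subgroup.mem_bot, ← hbot]
    exact mem_charKer.mpr hker
  change u * v * u⁻¹ * v⁻¹ = 1 at h1
  rwa [mul_inv_eq_one, mul_inv_eq_iff_eq_mul] at h1


include hTI hC hKN hidx in
/-- In a simple group the kernel is abelian when its abelianization is large and each nonlinear
degree is small against the sum of the squares of the smaller ones. -/
theorem comm_of_degrees [IsSimpleGroup G] (he2 : 2 ≤ (K.subgroupOf N).index)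
    (hL : (K.subgroupOf N).index * ((K.subgroupOf N).index + 2) + 2 ≤
      (commutator (K.subgroupOf N)).index)
    (hlow : ∀ ψ : Cfsg.IrrCharacter (K.subgroupOf N), 1 < deg ψ →
      (K.subgroupOf N).index * (2 * deg ψ + 1) + 1 < low (K.subgroupOf N) (deg ψ)) :
    ∀ u ∈ K, ∀ v ∈ K, u * v = v * u := by
  classical
  have hC' := centralizer_subgroupOf_le K hC N
  set M := K.subgroupOf N with hM
  set E := M.index with hE
  obtain ⟨F, hF, hfib⟩ : ∃ F : Cfsg.IrrCharacter M → Cfsg.IrrCharacter N, _ := exists_induce N K hC' 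
  let d : Cfsg.IrrCharacter N → ℕ := fun χ =>
    if h : IsRelevant M (χ : N → ℂ) then Classical.choose (exists_relevant_degree M hC' χ.2 h) else 0
  have hd : ∀ χ : Cfsg.IrrCharacter N, IsRelevant M (χ : N → ℂ) →
      (χ : N → ℂ) 1 = ((M.index * d χ : ℕ) : ℂ) := fun χ h => by
    simp only [d, dif_pos h]
    exact (Classical.choose_spec (exists_relevant_degree M hC' χ.2 h)).2.2
  have hd0 : ∀ χ : Cfsg.IrrCharacter N, IsRelevant M (χ : N → ℂ) → 0 < d χ := fun χ h => by
    simp only [d, dif_pos h]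
    exact (Classical.choose_spec (exists_relevant_degree M hC' χ.2 h)).1
  have hdF : ∀ ψ : Cfsg.IrrCharacter M, (ψ : M → ℂ) ≠ (fun _ => 1) → d (F ψ) = deg ψ := by
    intro ψ h
    obtain ⟨-, hrel, hone⟩ := hF ψ h
    have := (hd _ hrel).symm.trans hone
    rw [Nat.cast_inj] at this
    exact Nat.eq_of_mul_eq_mul_left (Nat.pos_of_ne_zero Subgroup.index_ne_zero_of_finite) this
  let one : Cfsg.IrrCharacter M := ⟨fun _ => 1, isIrrCharacter_one⟩
  have hone : deg one = 1 := deg_eq (by simp [one])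
  -- sums over the characters of `K` against sums over their fibres
  have hcount : ∀ (p : ℕ → Prop) [DecidablePred p] (X : Finset (Cfsg.IrrCharacter N)), p 1 →
      (∀ x : Cfsg.IrrCharacter N, IsRelevant M (x : N → ℂ) → p (d x) → x ∈ X) →
      ∑ ψ ∈ Finset.univ.filter (fun ψ : Cfsg.IrrCharacter M => p (deg ψ)), deg ψ ^ 2 ≤
        1 + E * ∑ x ∈ X, d x ^ 2 := by
    intro p _ X hp hX
    set S := (Finset.univ.filter (fun ψ : Cfsg.IrrCharacter M => p (deg ψ))).erase one with hS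
    rw [← Finset.add_sum_erase _ _ (Finset.mem_filter.mpr
      ⟨Finset.mem_univ one, show p (deg one) by rwa [hone]⟩), hone, one_pow]
    refine Nat.add_le_add_left ?_ 1
    have hne : ∀ {ψ}, ψ ∈ S → (ψ : Cfsg.IrrCharacter M).1 ≠ fun _ => 1 := fun h e =>
      (Finset.mem_erase.mp h).1 (Subtype.ext e)
    rw [← Finset.sum_fiberwise_of_maps_to (g := F) (t := X) fun ψ hψ => hX _ (hF ψ (hne hψ)).2.1
      (by rw [hdF ψ (hne hψ)]; exact (Finset.mem_filter.mp (Finset.mem_of_mem_erase hψ)).2),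
      Finset.mul_sum]
    refine Finset.sum_le_sum fun χ _ => ?_
    rcases (S.filter (fun ψ => F ψ = χ)).eq_empty_or_nonempty with h0 | ⟨ψ₀, hψ₀⟩
    · rw [h0, Finset.sum_empty]; exact Nat.zero_le _
    obtain ⟨hψ₀S, rfl⟩ := Finset.mem_filter.mp hψ₀
    rw [Finset.sum_congr rfl fun ψ hψ => by
      rw [← hdF ψ (hne (Finset.mem_filter.mp hψ).1), (Finset.mem_filter.mp hψ).2],
      Finset.sum_const, smul_eq_mul]
    refine Nat.mul_le_mul_right _ ?_
    rw [hE, ← hfib _ (hF ψ₀ (hne hψ₀S)).2.1, Nat.card_eq_fintype_card, Fintype.card_subtype]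
    exact Finset.card_le_card fun ψ hψ => Finset.mem_filter.mpr
      ⟨Finset.mem_univ _, hne (Finset.mem_filter.mp hψ).1, (Finset.mem_filter.mp hψ).2⟩
  set X₁ := Finset.univ.filter fun x : Cfsg.IrrCharacter N => IsRelevant M (x : N → ℂ) ∧ d x = 1
    with hX₁
  have hcard : E + 3 ≤ X₁.card := by
    have h := hcount (· = 1) X₁ rfl fun x hx hd1 => by simp [hX₁, hx, hd1]
    rw [show ∑ ψ ∈ Finset.univ.filter (fun ψ : Cfsg.IrrCharacter M => deg ψ = 1), deg ψ ^ 2 =
      (commutator M).index from lev_one M, Finset.sum_congr rfl fun x hx => by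
        rw [(Finset.mem_filter.mp hx).2.2, one_pow], ← Finset.card_eq_sum_ones] at h
    by_contra hlt
    have := Nat.mul_le_mul_left E (show X₁.card ≤ E + 2 by omega)
    omega
  obtain ⟨lam, Θ, hlam, hΘ1, hΘ⟩ := exists_extension N K hTI hC hKN hidx d hd he2 hd0 X₁
    (fun x => by simp [hX₁, hM]) hcard (fun μ hμ hμ1 X hX => by
      obtain ⟨θ, hθ, hθind⟩ := exists_eq_indFun_of_relevant M hC' μ.2 hμ
      have hdeg : deg (⟨θ, hθ⟩ : Cfsg.IrrCharacter M) = d μ := deg_eq (by
        have h := hd μ hμ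
        rw [hθind, indFun_one, Nat.cast_mul] at h
        exact mul_left_cancel₀ (by exact_mod_cast Subgroup.index_ne_zero_of_finite) h)
      have h1 := hlow ⟨θ, hθ⟩ (by have := hd0 μ hμ; omega)
      rw [hdeg] at h1
      have h2 := hcount (· < d μ) X (by have := hd0 μ hμ; omega) hX
      change low M (d μ) ≤ _ at h2
      by_contra hlt
      have := Nat.mul_le_mul_left E (not_lt.mp hlt)
      change E * (2 * d μ + 1) + 1 < low M (d μ) at h1
      omega)
  have hlr := (Finset.mem_filter.mp hlam).2.1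
  refine comm_of_extension N K hC hKN hlr ?_ hΘ1 hΘ
  rw [hd lam hlr, (Finset.mem_filter.mp hlam).2.2, mul_one]

include hTI hC hKN hidx in
/-- In a simple group a kernel with coherent relevant characters is abelian unless small. -/
theorem comm_of_coherent [IsSimpleGroup G] (he2 : 2 ≤ (K.subgroupOf N).index)
    (hnil : Group.IsNilpotent (K.subgroupOf N))
    (hbig : (K.subgroupOf N).index * ((K.subgroupOf N).index + 2) + 1 < Nat.card (K.subgroupOf N))
    (hcoh : Cfsg.IsCoherent {χ : N → ℂ | Cfsg.IsIrrCharacter N χ ∧ ∃ k : N, (k : G) ∈ K ∧ χ k ≠ χ 1}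
      {1}ᶜ (fun α => Cfsg.indFun N α)) :
    ∀ u ∈ K, ∀ v ∈ K, u * v = v * u := by
  classical
  have hC' := centralizer_subgroupOf_le K hC N
  set M := K.subgroupOf N with hM
  set E := M.index with hE
  obtain ⟨F, hF, -⟩ : ∃ F : Cfsg.IrrCharacter M → Cfsg.IrrCharacter N, _ := exists_induce N K hC'
  obtain ⟨-, star, hstar, hext⟩ := hcoh
  set S := {χ : N → ℂ | Cfsg.IsIrrCharacter N χ ∧ ∃ k : N, (k : G) ∈ K ∧ χ k ≠ χ 1} with hS
  choose d hd0 hd using fun χ : Cfsg.IrrCharacter N =>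
    (show ∃ n : ℕ, (IsRelevant M (χ : N → ℂ) → 0 < n) ∧
        (IsRelevant M (χ : N → ℂ) → (χ : N → ℂ) 1 = ((M.index * n : ℕ) : ℂ)) by
      by_cases h : IsRelevant M (χ : N → ℂ)
      · obtain ⟨n, h0, -, h1⟩ := exists_relevant_degree M hC' χ.2 h
        exact ⟨n, fun _ => h0, fun _ => h1⟩
      · exact ⟨0, fun h' => absurd h' h, fun h' => absurd h' h⟩)
  have hmemS : ∀ χ : Cfsg.IrrCharacter N, IsRelevant M (χ : N → ℂ) → (χ : N → ℂ) ∈ S :=
    fun χ h => ⟨χ.2, (isRelevant_subgroupOf_iff K N _).mp h⟩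
  haveI : Nontrivial M := by
    rw [← Finite.one_lt_card_iff_nontrivial]
    omega
  have hlin : 1 < (commutator M).index := by
    haveI : Group.IsSolvable M := inferInstance
    exact Subgroup.one_lt_index_of_ne_top
      (Group.IsSolvable.commutator_lt_top_of_nontrivial (G := M)).ne
  obtain ⟨ψ, hψne, hψ1⟩ : ∃ ψ : Cfsg.IrrCharacter M,
      (ψ : M → ℂ) ≠ (fun _ => 1) ∧ (ψ : M → ℂ) 1 = 1 := by
    by_contra hno
    push Not at hno
    have := card_linear (G := M)
    have hle : Nat.card {χ : Cfsg.IrrCharacter M // (χ : M → ℂ) 1 = 1} ≤ 1 :=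
      Finite.card_le_one_iff_subsingleton.mpr ⟨fun a b => Subtype.ext (Subtype.ext
        ((by_contra fun h => hno _ h a.2).trans (by_contra fun h => hno _ h b.2).symm))⟩
    omega
  obtain ⟨-, hlr, hldeg⟩ := hF ψ hψne
  set lam := F ψ
  rw [show deg ψ = 1 from deg_eq (by rw [hψ1, Nat.cast_one]), mul_one] at hldeg
  have hd1 : d lam = 1 := by
    have := (hd lam hlr).symm.trans hldeg
    rw [Nat.cast_inj] at this
    exact Nat.eq_of_mul_eq_mul_left (Nat.pos_of_ne_zero Subgroup.index_ne_zero_of_finite)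
      (this.trans (mul_one _).symm)
  set X := Finset.univ.filter fun χ : Cfsg.IrrCharacter N => IsRelevant M (χ : N → ℂ) with hXdef
  have hXm : ∀ χ : Cfsg.IrrCharacter N, χ ∈ X ↔ IsRelevant M (χ : N → ℂ) := fun χ => by simp [hXdef]
  have hSsum : E + 2 < ∑ x ∈ X, d x ^ 2 := by
    have h := sum_degree_sq (G := N)
    rw [← Finset.sum_filter_add_sum_filter_not Finset.univ
      (fun χ : Cfsg.IrrCharacter N => IsRelevant M (χ : N → ℂ)), sum_degree_sq_not_relevant,
      Finset.sum_congr rfl fun χ hχ => by rw [hd χ (Finset.mem_filter.mp hχ).2],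
      ← M.index_mul_card] at h
    have h' : ∑ χ ∈ X, (E * d χ) ^ 2 + E = E * Nat.card M := by exact_mod_cast h
    simp only [mul_pow] at h'
    rw [← Finset.mul_sum] at h'
    by_contra hlt
    have h2 := Nat.mul_le_mul_left (E ^ 2) (not_lt.mp hlt)
    have h3 := Nat.mul_lt_mul_of_pos_left hbig (show 0 < E by omega)
    nlinarith
  have hmem : ∀ χ : Cfsg.IrrCharacter N, IsRelevant M (χ : N → ℂ) →
      (χ : N → ℂ) ∈ Cfsg.zspan S := fun χ h => Submodule.subset_span (hmemS χ h)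
  have hsgn : ∀ χ : Cfsg.IrrCharacter N, ∃ (Φ : Cfsg.IrrCharacter G) (s : ℤ), (s = 1 ∨ s = -1) ∧
      (IsRelevant M (χ : N → ℂ) → star (χ : N → ℂ) = (s : ℂ) • (Φ : G → ℂ)) := by
    intro χ
    by_cases h : IsRelevant M (χ : N → ℂ)
    · rcases gen_norm_one (hstar.2.2.2 _ (hmem χ h))
        (by rw [hstar.2.2.1 _ (hmem χ h) _ (hmem χ h), classInner_irr_self χ.2]) with h1 | h1
      · exact ⟨⟨_, h1⟩, 1, Or.inl rfl, fun _ => by simp⟩
      · exact ⟨⟨_, h1⟩, -1, Or.inr rfl, fun _ => by simp⟩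
    · exact ⟨⟨fun _ => 1, isIrrCharacter_one⟩, 1, Or.inl rfl, fun h' => absurd h' h⟩
  choose th sg hsg hth using hsgn
  have hinj : Set.InjOn th X := by
    intro x hx y hy he
    by_contra hne
    have h1 := hstar.2.2.1 _ (hmem x ((hXm x).mp hx)) _ (hmem y ((hXm y).mp hy))
    rw [hth x ((hXm x).mp hx), hth y ((hXm y).mp hy), he, classInner_smul_left, classInner_smul_right,
      classInner_irr_self (th y).2, classInner_irr_ne x.2 y.2 (fun h => hne (Subtype.ext h)),
      map_intCast, mul_one] at h1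
    rcases hsg x with h | h <;> rcases hsg y with h' | h' <;> rw [h, h'] at h1 <;> norm_num at h1
  have hex : ∀ x ∈ X, Cfsg.indFun N ((x : N → ℂ) - (d x : ℂ) • (lam : N → ℂ)) =
      (sg lam : ℂ) • ((th x : G → ℂ) - (d x : ℂ) • (th lam : G → ℂ)) := by
    intro x hx
    have hxr := (hXm x).mp hx
    have he : (x : N → ℂ) - (d x : ℂ) • (lam : N → ℂ) =
        (x : N → ℂ) + (-(d x : ℤ)) • (lam : N → ℂ) := by
      funext y; simp [sub_eq_add_neg]
    have hl : (-(d x : ℤ)) • (lam : N → ℂ) ∈ Cfsg.zspan S := Submodule.smul_mem _ _ (hmem lam hlr)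
    have hon : (x : N → ℂ) - (d x : ℂ) • (lam : N → ℂ) ∈ Cfsg.zspanOn S ({1}ᶜ : Set N) := by
      refine ⟨by rw [he]; exact Submodule.add_mem _ (hmem x hxr) hl, fun y hy => ?_⟩
      obtain rfl : y = 1 := by simpa using hy
      simp [hd x hxr, hd lam hlr, hd1]; ring
    have hs : Cfsg.indFun N ((x : N → ℂ) - (d x : ℂ) • (lam : N → ℂ)) =
        (sg x : ℂ) • (th x : G → ℂ) - (d x : ℂ) • ((sg lam : ℂ) • (th lam : G → ℂ)) := by
      rw [← show star _ = Cfsg.indFun N _ from hext _ hon, he, hstar.1 _ (hmem x hxr) _ hl, hstar.2.1 _ (hmem lam hlr), hth x hxr,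
        hth lam hlr]
      funext y
      simp [sub_eq_add_neg]
      ring
    have h1 := congrFun hs 1
    obtain ⟨p, hp0, hp⟩ := exists_degree_pos (th x).2
    obtain ⟨q, hq0, hq⟩ := exists_degree_pos (th lam).2
    rw [indFun_one, hon.2 1 (by simp), mul_zero] at h1
    simp only [Pi.sub_apply, Pi.smul_apply, smul_eq_mul, hp, hq] at h1
    have h1' : (sg x) * (p : ℤ) - (d x : ℤ) * (sg lam * q) = 0 := by exact_mod_cast h1.symm
    have hpos : 0 < (p : ℤ) := by exact_mod_cast hp0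
    have hpos' : 0 < (d x : ℤ) * q := by
      have := hd0 x hxr
      positivity
    have hsame : sg x = sg lam := by
      rcases hsg x with h | h <;> rcases hsg lam with h' | h' <;> rw [h, h'] at h1' ⊢ <;> nlinarith
    rw [hs, hsame]
    funext y
    simp only [Pi.sub_apply, Pi.smul_apply, smul_eq_mul]
    ring
  have hg := good_of_signed N K hTI hC hKN hidx d hd (fun x hx => (hXm x).mp hx) ((hXm lam).mpr hlr)
    hd1 hinj (hsg lam) hex hSsum
  obtain ⟨Θ, hΘ1, hΘ⟩ := of_good N K hTI hC d hd he2 X hXm hg (by change 2 * 1 + E < _; omega)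
  exact comm_of_extension N K hC hKN hlr hldeg hΘ1 hΘ

end CfsgLib.FeitZass
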