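import Cfsg.Agent.Lib.Char.TICoherence
import Cfsg.Agent.Lib.Char.Linear

/-!
# Feit's degree argument for a nilpotent TI subgroup with Frobenius normalizer

`K` is a TI subgroup containing the centralizers of its nonidentity elements, `N` its normalizer,
of index `|K| + 1`.  If there are at least `[N:K] + 3` relevant characters of least degree and
every further degree is small against the sum of the squares of the smaller ones, some nonprincipal
irreducible character of `G` is constant on the derived subgroup of `K`.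
-/

set_option autoImplicit false

namespace CfsgLib.FeitZass

open CfsgLib.Char
open scoped ComplexConjugate commutatorElement

variable {G : Type*} [Group G] [Fintype G] (N K : Subgroup G) [Fintype N]
  [hKn : (K.subgroupOf N).Normal]


/-- The partial correspondence between characters of `N` and of `G`. -/
def Good (d : Cfsg.IrrCharacter N → ℕ) (X : Finset (Cfsg.IrrCharacter N))
    (lam : Cfsg.IrrCharacter N) (th : Cfsg.IrrCharacter N → Cfsg.IrrCharacter G) : Prop :=
  lam ∈ X ∧ d lam = 1 ∧ Set.InjOn th X ∧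
    Cfsg.classInner (Cfsg.indFun N (lam : N → ℂ)) (th lam : G → ℂ) = 1 ∧
    ∀ x ∈ X, x ≠ lam → ∃ s : ℤ, (s = 1 ∨ s = -1) ∧
      Cfsg.indFun N ((x : N → ℂ) - (d x : ℂ) • (lam : N → ℂ)) =
        (s : ℂ) • (th x : G → ℂ) - (d x : ℂ) • (th lam : G → ℂ)

variable (hTI : ∀ g : G, g ∉ N → ∀ k ∈ K, g * k * g⁻¹ ∈ K → k = 1)
  (hC : ∀ k ∈ K, k ≠ 1 → Subgroup.centralizer ({k} : Set G) ≤ K)
  (hKN : K ≤ N) (hidx : N.index = Nat.card K + 1)
  (d : Cfsg.IrrCharacter N → ℕ)
  (hd : ∀ χ : Cfsg.IrrCharacter N, IsRelevant (K.subgroupOf N) (χ : N → ℂ) →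
    (χ : N → ℂ) 1 = (((K.subgroupOf N).index * d χ : ℕ) : ℂ))

omit [Fintype N] hKn in
/-- A relevant character vanishes outside `K`. -/
theorem off (hC : ∀ k ∈ K, k ≠ 1 → Subgroup.centralizer ({k} : Set G) ≤ K) [Fintype N]
    [(K.subgroupOf N).Normal] {χ : Cfsg.IrrCharacter N} (h : IsRelevant (K.subgroupOf N) (χ : N → ℂ)) {x : N}
    (hx : (x : G) ∉ K) : (χ : N → ℂ) x = 0 := by
  have := Fintype.ofFinite (K.subgroupOf N)
  exact relevant_apply_eq_zero (K.subgroupOf N) (centralizer_subgroupOf_le K hC N) χ.2 h hx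

include hTI in
omit hKn in
/-- Induction preserves the inner products of functions on `K`. -/
theorem iso {α β : N → ℂ} (hβ : Cfsg.IsClassFunction N β) (hαT : ∀ x : N, (x : G) ∉ K → α x = 0)
    (hβT : ∀ x : N, (x : G) ∉ K → β x = 0) (h1 : α 1 = 0) :
    Cfsg.classInner (Cfsg.indFun N α) (Cfsg.indFun N β) = Cfsg.classInner α β :=
  classInner_indFun_of_TI N (K : Set G) hTI hβ hαT hβT h1

include hTI hC hidx hd hKN in
/-- The norm of an induced relevant character. -/
theorem norm_ind {χ : Cfsg.IrrCharacter N} (h : IsRelevant (K.subgroupOf N) (χ : N → ℂ)) :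
    Cfsg.classInner (Cfsg.indFun N (χ : N → ℂ)) (Cfsg.indFun N (χ : N → ℂ)) =
      ((1 + (K.subgroupOf N).index * d χ ^ 2 : ℕ) : ℂ) := by
  classical
  have hcl := isClassFunction_of_isIrr χ.2
  rw [frobenius_reciprocity N _ (isClassFunction_indFun N _), classInner_def]
  have hval : ∀ x : N, (χ : N → ℂ) x * conj (Cfsg.indFun N (χ : N → ℂ) x) =
      (χ : N → ℂ) x * conj ((χ : N → ℂ) x) +
        if x = 1 then ((Nat.card K : ℂ) * (((K.subgroupOf N).index * d χ : ℕ) : ℂ) ^ 2) else 0 := by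
    intro x
    split_ifs with hx
    · subst hx
      rw [OneMemClass.coe_one, indFun_one, hd χ h, hidx, map_mul]
      simp only [map_natCast]
      push_cast
      ring
    · rw [add_zero]
      by_cases hxK : (x : G) ∈ K
      · rw [indFun_eq_of_TI N (K : Set G) hTI hcl (fun y hy => off N K hC h hy) hxK hx]
      · rw [off N K hC h hxK, zero_mul, zero_mul]
  rw [Finset.sum_congr rfl fun x _ => hval x, Finset.sum_add_distrib, Finset.sum_ite_eq',
    if_pos (Finset.mem_univ _), mul_add, ← classInner_def, classInner_irr_self χ.2]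
  have hcard : Nat.card N = (K.subgroupOf N).index * Nat.card K := by
    rw [← Nat.card_congr (Subgroup.subgroupOfEquivOfLe hKN).toEquiv, Subgroup.index_mul_card]
  have hK0 : (Nat.card K : ℂ) ≠ 0 := card_subgroup_ne_zero K
  have he0 : ((K.subgroupOf N).index : ℂ) ≠ 0 := by exact_mod_cast Subgroup.index_ne_zero_of_finite
  rw [hcard]
  push_cast
  field_simp

include hTI hC hd in
/-- The constituent bound. -/
theorem bound {X : Finset (Cfsg.IrrCharacter N)} {lam : Cfsg.IrrCharacter N}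
    {th : Cfsg.IrrCharacter N → Cfsg.IrrCharacter G}
    (hX : ∀ x ∈ X, IsRelevant (K.subgroupOf N) (x : N → ℂ)) (hg : Good N d X lam th)
    {ψ : N → ℂ} (hψ : Cfsg.IsCharacter N ψ) (hψT : ∀ x : N, (x : G) ∉ K → ψ x = 0)
    (horth : ∀ x ∈ X, Cfsg.classInner ψ (x : N → ℂ) = 0) {n Nn : ℕ}
    (hn : ψ 1 = (((K.subgroupOf N).index * n : ℕ) : ℂ)) (hN : Cfsg.classInner ψ ψ = (Nn : ℂ))
    (hS : 2 * n + Nn < ∑ x ∈ X, d x ^ 2) :
    Cfsg.classInner (Cfsg.indFun N ψ) (th lam : G → ℂ) = 0 ∧
      ∀ x ∈ X, x ≠ lam → Cfsg.classInner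
        (Cfsg.indFun N (ψ - (n : ℂ) • (lam : N → ℂ))) (th x : G → ℂ) = 0 := by
  classical
  obtain ⟨hlam, hd1, hinj, hc1, hex⟩ := hg
  have hlr := hX lam hlam
  set β : N → ℂ := ψ - (n : ℂ) • (lam : N → ℂ) with hβ
  have hβgen : Cfsg.IsGeneralizedCharacter N β :=
    isGen_sub (isGen_of_char hψ) (isGen_of_char (isCharacter_natCast_smul (isCharacter_of_isIrr lam.2) n))
  have hβT : ∀ x : N, (x : G) ∉ K → β x = 0 := fun x hx => by
    simp [hβ, hψT x hx, off N K hC hlr hx]
  have hβ1 : β 1 = 0 := by simp [hβ, hn, hd lam hlr, hd1]; ring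
  have hgen : Cfsg.IsGeneralizedCharacter G (Cfsg.indFun N β) := isGen_indFun N hβgen
  obtain ⟨m, hm, hmi, hsq⟩ := gen_decomp hgen
  obtain ⟨a, ha⟩ := classInner_char_nat (isCharacter_indFun N hψ) (isCharacter_of_isIrr (th lam).2)
  have hlo : Cfsg.classInner ψ (lam : N → ℂ) = 0 := horth lam hlam
  have hlo' : Cfsg.classInner (lam : N → ℂ) ψ = 0 := by
    rw [← classInner_conj_symm, hlo, map_zero]
  have hnorm : Cfsg.classInner (Cfsg.indFun N β) (Cfsg.indFun N β) = ((Nn + n ^ 2 : ℕ) : ℂ) := by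
    rw [iso N K hTI (isClassFunction_of_isGen hβgen) hβT hβT hβ1, hβ]
    simp only [classInner_sub_left, classInner_sub_right, classInner_smul_left,
      classInner_smul_right, map_natCast, hlo, hlo', hN, classInner_irr_self lam.2]
    push_cast
    ring
  have hml : m (th lam) = (a : ℤ) - n := by
    have h := hmi (th lam)
    rw [hβ, indFun_sub, indFun_smul, classInner_sub_left, classInner_smul_left, hc1, ha,
      mul_one] at h
    exact_mod_cast h.symm
  have hmx : ∀ x ∈ X, x ≠ lam → m (th x) ^ 2 = (d x : ℤ) ^ 2 * (a : ℤ) ^ 2 := by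
    intro x hx hne
    obtain ⟨s, hs, he⟩ := hex x hx hne
    have hxr := hX x hx
    have h : Cfsg.classInner (Cfsg.indFun N β) (Cfsg.indFun N ((x : N → ℂ) - (d x : ℂ) • (lam : N → ℂ)))
        = (n : ℂ) * d x := by
      rw [iso N K hTI (isClassFunction_sub (isClassFunction_of_isIrr x.2)
        (isClassFunction_smul (isClassFunction_of_isIrr lam.2) _)) hβT
        (fun y hy => by simp [off N K hC hxr hy, off N K hC hlr hy]) hβ1, hβ]
      simp only [classInner_sub_left, classInner_sub_right, classInner_smul_left,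
        classInner_smul_right, map_natCast, hlo, horth x hx, classInner_irr_self lam.2,
        classInner_irr_ne lam.2 x.2 (fun h => hne (Subtype.ext h.symm))]
      ring
    rw [he, classInner_sub_right, classInner_smul_right, classInner_smul_right, hmi, hmi, hml,
      map_natCast, map_intCast] at h
    have h' : s * m (th x) - (d x : ℤ) * ((a : ℤ) - n) = (n : ℤ) * d x := by exact_mod_cast h
    have h'' : s * m (th x) = (d x : ℤ) * a := by linarith
    rw [← mul_pow, ← h'', mul_pow]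
    rcases hs with rfl | rfl <;> simp
  have hsum : ∑ x ∈ X, m (th x) ^ 2 ≤ (Nn : ℤ) + (n : ℤ) ^ 2 := by
    have h1 : ∑ χ, m χ ^ 2 = (Nn : ℤ) + (n : ℤ) ^ 2 := by
      rw [hnorm] at hsq
      exact_mod_cast hsq.symm
    rw [← h1, ← Finset.sum_image (f := fun χ => m χ ^ 2) hinj]
    exact Finset.sum_le_sum_of_subset_of_nonneg (Finset.subset_univ _) fun _ _ _ => sq_nonneg _
  rw [← Finset.add_sum_erase _ _ hlam, hml,
    Finset.sum_congr rfl fun x hx => hmx x (Finset.mem_of_mem_erase hx) (Finset.ne_of_mem_erase hx),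
    ← Finset.sum_mul] at hsum
  rw [← Finset.add_sum_erase _ _ hlam, hd1] at hS
  have ha0 : a = 0 := by
    by_contra h0
    have h1 : (1 : ℤ) ≤ a := by exact_mod_cast Nat.one_le_iff_ne_zero.mpr h0
    have hS' : (2 : ℤ) * n + Nn < 1 + ∑ x ∈ X.erase lam, (d x : ℤ) ^ 2 := by exact_mod_cast hS
    have hnn : (0 : ℤ) ≤ ∑ x ∈ X.erase lam, (d x : ℤ) ^ 2 := Finset.sum_nonneg fun _ _ => sq_nonneg _
    nlinarith [mul_le_mul_of_nonneg_left h1 (by linarith : (0:ℤ) ≤ a), mul_nonneg (mul_nonneg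
      (by linarith : (0:ℤ) ≤ a) (by linarith : (0:ℤ) ≤ a - 1)) hnn, mul_nonneg (by linarith : (0:ℤ) ≤ a - 1)
      (Nat.cast_nonneg Nn : (0:ℤ) ≤ Nn)]
  refine ⟨by rw [ha, ha0, Nat.cast_zero], fun x hx hne => ?_⟩
  have := hmx x hx hne
  rw [ha0] at this
  rw [hmi, show m (th x) = 0 by simpa using this, Int.cast_zero]

include hTI hC hd in
/-- A further relevant character joins the correspondence. -/
theorem extend {X : Finset (Cfsg.IrrCharacter N)} {lam : Cfsg.IrrCharacter N}
    {th : Cfsg.IrrCharacter N → Cfsg.IrrCharacter G}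
    (hX : ∀ x ∈ X, IsRelevant (K.subgroupOf N) (x : N → ℂ)) (hg : Good N d X lam th)
    {μ : Cfsg.IrrCharacter N} (hμ : IsRelevant (K.subgroupOf N) (μ : N → ℂ)) (hμX : μ ∉ X)
    (hS : 2 * d μ + 1 < ∑ x ∈ X, d x ^ 2) : ∃ th', Good N d (insert μ X) lam th' := by
  classical
  have hlr := hX lam hg.1
  have hne : μ ≠ lam := fun h => hμX (h ▸ hg.1)
  obtain ⟨hb1, hb2⟩ := bound N K hTI hC d hd hX hg (isCharacter_of_isIrr μ.2)
    (fun x hx => off N K hC hμ hx)
    (fun x hx => classInner_irr_ne μ.2 x.2 fun h => hμX (Subtype.ext h ▸ hx)) (hd μ hμ)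
    (by rw [classInner_irr_self μ.2, Nat.cast_one]) hS
  obtain ⟨hlam, hd1, hinj, hc1, hex⟩ := hg
  set β : N → ℂ := (μ : N → ℂ) - (d μ : ℂ) • (lam : N → ℂ) with hβ
  have hβgen : Cfsg.IsGeneralizedCharacter N β := isGen_sub (isGen_of_irr μ.2)
    (isGen_of_char (isCharacter_natCast_smul (isCharacter_of_isIrr lam.2) _))
  set φ : G → ℂ := Cfsg.indFun N β + (d μ : ℂ) • (th lam : G → ℂ) with hφ
  have hm : Cfsg.classInner (Cfsg.indFun N β) (th lam : G → ℂ) = -(d μ : ℂ) := by
    rw [hβ, indFun_sub, indFun_smul, classInner_sub_left, classInner_smul_left, hc1, hb1]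
    ring
  have hm' : Cfsg.classInner (th lam : G → ℂ) (Cfsg.indFun N β) = -(d μ : ℂ) := by
    rw [← classInner_conj_symm, hm, map_neg, map_natCast]
  have hφgen : Cfsg.IsGeneralizedCharacter G φ := isGen_add (isGen_indFun N hβgen)
    (isGen_of_char (isCharacter_natCast_smul (isCharacter_of_isIrr (th lam).2) _))
  have hφ1 : Cfsg.classInner φ φ = 1 := by
    have hz : ∀ x : N, (x : G) ∉ K → β x = 0 := fun x hx => by
      simp [hβ, off N K hC hμ hx, off N K hC hlr hx]
    have h0 : β 1 = 0 := by simp [hβ, hd μ hμ, hd lam hlr, hd1]; ring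
    have hββ : Cfsg.classInner β β = 1 + (d μ : ℂ) ^ 2 := by
      rw [hβ]
      simp only [classInner_sub_left, classInner_sub_right, classInner_smul_left,
        classInner_smul_right, map_natCast, classInner_irr_self μ.2, classInner_irr_self lam.2,
        classInner_irr_ne μ.2 lam.2 (fun h => hne (Subtype.ext h)),
        classInner_irr_ne lam.2 μ.2 (fun h => hne (Subtype.ext h.symm))]
      ring
    rw [hφ]
    simp only [classInner_add_left, classInner_add_right, classInner_smul_left,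
      classInner_smul_right, map_natCast, classInner_irr_self (th lam).2, hm, hm',
      iso N K hTI (isClassFunction_of_isGen hβgen) hz hz h0, hββ]
    ring
  obtain ⟨Φ, s, hs, hΦ⟩ : ∃ (Φ : Cfsg.IrrCharacter G) (s : ℤ), (s = 1 ∨ s = -1) ∧
      φ = (s : ℂ) • (Φ : G → ℂ) := by
    rcases gen_norm_one hφgen hφ1 with h | h
    · exact ⟨⟨φ, h⟩, 1, Or.inl rfl, by simp⟩
    · exact ⟨⟨-φ, h⟩, -1, Or.inr rfl, by simp⟩
  have hΦX : ∀ x ∈ X, th x ≠ Φ := by
    intro x hx he
    have h0 : Cfsg.classInner φ (th x : G → ℂ) = 0 := by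
      rcases eq_or_ne x lam with rfl | hxl
      · rw [hφ, classInner_add_left, classInner_smul_left, classInner_irr_self (th _).2, hm]
        ring
      · rw [hφ, classInner_add_left, classInner_smul_left, hb2 x hx hxl,
          classInner_irr_ne (th lam).2 (th x).2
            (fun h => hxl (hinj hx hlam (Subtype.ext h.symm)))]
        ring
    rw [hΦ, classInner_smul_left, he, classInner_irr_self Φ.2, mul_one] at h0
    rcases hs with rfl | rfl <;> simp at h0
  refine ⟨Function.update th μ Φ, Finset.mem_insert_of_mem hlam, hd1, ?_, ?_, ?_⟩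
  · intro x hx y hy h
    rw [Finset.coe_insert, Set.mem_insert_iff] at hx hy
    rcases hx with rfl | hx <;> rcases hy with rfl | hy
    · rfl
    · rw [Function.update_self, Function.update_of_ne (fun e' : y = x => hμX (e' ▸ hy))] at h
      exact absurd h.symm (hΦX y hy)
    · rw [Function.update_self, Function.update_of_ne (fun e' : x = y => hμX (e' ▸ hx))] at h
      exact absurd h (hΦX x hx)
    · rw [Function.update_of_ne (fun e' : x = μ => hμX (e' ▸ hx)),
        Function.update_of_ne (fun e' : y = μ => hμX (e' ▸ hy))] at h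
      exact hinj hx hy h
  · rw [Function.update_of_ne hne.symm]
    exact hc1
  · intro x hx hxl
    rw [Function.update_of_ne hne.symm]
    rcases Finset.mem_insert.mp hx with rfl | hx'
    · refine ⟨s, hs, ?_⟩
      rw [Function.update_self, ← hΦ, hφ, hβ]
      simp
    · rw [Function.update_of_ne (fun e' : x = μ => hμX (e' ▸ hx'))]
      exact hex x hx' hxl

include hTI hC hKN hidx hd in
/-- The correspondence for the characters of least degree. -/
theorem base {X : Finset (Cfsg.IrrCharacter N)} (hX : ∀ x ∈ X, IsRelevant (K.subgroupOf N) (x : N → ℂ))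
    (h1 : ∀ x ∈ X, d x = 1) (hcard : (K.subgroupOf N).index + 3 ≤ X.card) {lam : Cfsg.IrrCharacter N} (hlam : lam ∈ X) :
    ∃ th, Good N d X lam th := by
  classical
  have hlr := hX lam hlam
  let τ : X → G → ℂ := fun i => Cfsg.indFun N ((i.1 : N → ℂ) - (lam : N → ℂ))
  have hz : ∀ i : X, ∀ x : N, (x : G) ∉ K → ((i.1 : N → ℂ) - (lam : N → ℂ)) x = 0 := fun i x hx => by
    simp [off N K hC (hX i.1 i.2) hx, off N K hC hlr hx]
  have h0 : ∀ i : X, ((i.1 : N → ℂ) - (lam : N → ℂ)) 1 = 0 := fun i => by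
    simp [hd i.1 (hX i.1 i.2), hd lam hlr, h1 i.1 i.2, h1 lam hlam]
  have hcf : ∀ i : X, Cfsg.IsClassFunction N ((i.1 : N → ℂ) - (lam : N → ℂ)) := fun i =>
    isClassFunction_sub (isClassFunction_of_isIrr i.1.2) (isClassFunction_of_isIrr lam.2)
  obtain ⟨s, hs, μ, hμ, hμinj, hτ⟩ := coherent_of_gram (⟨lam, hlam⟩ : X) τ
    (by simp only [τ, sub_self]; exact indFun_zero N)
    (fun i => isGen_indFun N (isGen_sub (isGen_of_irr i.1.2) (isGen_of_irr lam.2)))
    (fun i => by simp only [τ, indFun_one, h0, mul_zero])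
    (fun i j hi hj => by
      simp only [τ]
      have hi' : i.1 ≠ lam := fun h => hi (Subtype.ext h)
      have hj' : lam ≠ j.1 := fun h => hj (Subtype.ext h.symm)
      rw [iso N K hTI (hcf j) (hz i) (hz j) (h0 i), irr_sub_inner]
      by_cases hij : i = j
      · subst hij; norm_num [hi', hj']
      · have hij' : i.1 ≠ j.1 := fun h => hij (Subtype.ext h)
        norm_num [hi', hj', hij, hij'])
  set l : X := ⟨lam, hlam⟩ with hl
  have hlnorm : Cfsg.classInner (Cfsg.indFun N (lam : N → ℂ)) (Cfsg.indFun N (lam : N → ℂ)) =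
      ((1 + (K.subgroupOf N).index : ℕ) : ℂ) := by
    rw [norm_ind N K hTI hC hKN hidx d hd hlr, h1 lam hlam, one_pow, mul_one]
  obtain ⟨c, hc, hci, hcsq⟩ := gen_decomp
    (isGen_of_char (isCharacter_indFun N (isCharacter_of_isIrr lam.2)))
  have hcnn : ∀ χ : Cfsg.IrrCharacter G, 0 ≤ c χ := fun χ => by
    obtain ⟨k, hk⟩ := classInner_char_nat (isCharacter_indFun N (isCharacter_of_isIrr lam.2))
      (isCharacter_of_isIrr χ.2)
    rw [hci χ] at hk
    have : c χ = k := by exact_mod_cast hk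
    omega
  let θ : X → Cfsg.IrrCharacter G := fun i => ⟨μ i, hμ i⟩
  obtain ⟨sz, hsz, rfl⟩ : ∃ sz : ℤ, (sz = 1 ∨ sz = -1) ∧ s = sz := by
    rcases hs with rfl | rfl
    · exact ⟨1, Or.inl rfl, by simp⟩
    · exact ⟨-1, Or.inr rfl, by simp⟩
  have hci' : ∀ i : X, i ≠ l → sz * (c (θ i) - c (θ l)) = -1 := by
    intro i hi
    have h : Cfsg.classInner (τ i) (Cfsg.indFun N (lam : N → ℂ)) = -1 := by
      simp only [τ]
      rw [iso N K hTI (isClassFunction_of_isIrr lam.2) (hz i) (fun x hx => off N K hC hlr hx)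
        (h0 i), classInner_sub_left, classInner_irr_self lam.2,
        classInner_irr_ne i.1.2 lam.2 (fun h => hi (Subtype.ext (Subtype.ext h)))]
      ring
    rw [hτ i, classInner_smul_left, classInner_sub_left] at h
    have hcc : ∀ j : X, Cfsg.classInner (μ j) (Cfsg.indFun N (lam : N → ℂ)) = (c (θ j) : ℂ) :=
      fun j => by rw [← classInner_conj_symm, show μ j = (θ j : G → ℂ) from rfl, hci, map_intCast]
    rw [hcc, hcc] at h
    exact_mod_cast h
  have hθinj : Function.Injective θ := fun i j h => hμinj (congrArg Subtype.val h)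
  have hsum : ∑ i : X, c (θ i) ^ 2 ≤ 1 + ((K.subgroupOf N).index : ℤ) := by
    have h2 : ∑ χ, c χ ^ 2 = 1 + ((K.subgroupOf N).index : ℤ) := by
      rw [hlnorm] at hcsq
      exact_mod_cast hcsq.symm
    rw [← h2, ← Finset.sum_image (f := fun χ => c χ ^ 2) hθinj.injOn]
    exact Finset.sum_le_sum_of_subset_of_nonneg (Finset.subset_univ _) fun _ _ _ => sq_nonneg _
  rw [← Finset.add_sum_erase _ _ (Finset.mem_univ l)] at hsum
  have hEcard : (Finset.univ.erase l).card + 1 = X.card := by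
    rw [Finset.card_erase_add_one (Finset.mem_univ l), Finset.card_univ, Fintype.card_coe]
  obtain ⟨i₁, hi₁⟩ : (Finset.univ.erase l).Nonempty := Finset.card_pos.mp (by omega)
  have hv : ∀ i ∈ Finset.univ.erase l, c (θ i) = c (θ i₁) := fun i hi => by
    have a1 := hci' i (Finset.ne_of_mem_erase hi)
    have a2 := hci' i₁ (Finset.ne_of_mem_erase hi₁)
    rcases hsz with rfl | rfl <;> omega
  rw [Finset.sum_congr rfl fun i hi => by rw [hv i hi], Finset.sum_const, nsmul_eq_mul] at hsum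
  have a1 := hci' i₁ (Finset.ne_of_mem_erase hi₁)
  have hnn := hcnn (θ i₁)
  have hzero : c (θ i₁) = 0 := by
    by_contra hne
    have h5 : (1 : ℤ) ≤ c (θ i₁) ^ 2 := by
      have : 1 ≤ c (θ i₁) := by omega
      nlinarith
    have h6 : ((K.subgroupOf N).index : ℤ) + 2 ≤ ((Finset.univ.erase l).card : ℕ) := by omega
    have h7 := sq_nonneg (c (θ l))
    nlinarith [mul_le_mul h6 h5 (by norm_num) (by positivity)]
  have hs1 : sz = 1 ∧ c (θ l) = 1 := by
    have := hcnn (θ l)
    rcases hsz with rfl | rfl <;> omega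
  let th : Cfsg.IrrCharacter N → Cfsg.IrrCharacter G := fun x =>
    if h : x ∈ X then θ ⟨x, h⟩ else θ l
  refine ⟨th, hlam, h1 lam hlam, ?_, ?_, ?_⟩
  · intro x hx y hy h
    simp only [th, dif_pos (show x ∈ X from hx), dif_pos (show y ∈ X from hy)] at h
    exact congrArg Subtype.val (hθinj h)
  · simp only [th, dif_pos hlam]
    rw [show (⟨lam, hlam⟩ : X) = l from rfl, hci, hs1.2, Int.cast_one]
  · intro x hx _
    refine ⟨1, Or.inl rfl, ?_⟩
    simp only [th, dif_pos hx, dif_pos hlam, h1 x hx, Nat.cast_one, one_smul, Int.cast_one]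
    have := hτ ⟨x, hx⟩
    rw [hs1.1, Int.cast_one, one_smul] at this
    exact this

include hTI hC hd in
/-- A correspondence of all the relevant characters yields an extension of a least character. -/
theorem of_good (he2 : 2 ≤ (K.subgroupOf N).index)
    (X : Finset (Cfsg.IrrCharacter N))
    (hXm : ∀ x : Cfsg.IrrCharacter N, x ∈ X ↔ IsRelevant (K.subgroupOf N) (x : N → ℂ))
    {lam : Cfsg.IrrCharacter N} {th : Cfsg.IrrCharacter N → Cfsg.IrrCharacter G}
    (hg : Good N d X lam th) (hS : 2 * 1 + (K.subgroupOf N).index < ∑ x ∈ X, d x ^ 2) :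
    ∃ Θ : Cfsg.IrrCharacter G,
      ((Θ : G → ℂ) ≠ fun _ => 1) ∧ ∀ x : N, (Θ : G → ℂ) x = (lam : N → ℂ) x := by
  classical
  have := Fintype.ofFinite (K.subgroupOf N)
  -- the characters trivial on `K`
  set ρ : N → ℂ := ∑ σ ∈ Xᶜ, (σ : N → ℂ) 1 • (σ : N → ℂ) with hρ
  choose dd hdd using fun σ : Cfsg.IrrCharacter N => exists_degree (isCharacter_of_isIrr σ.2)
  have hρc : Cfsg.IsCharacter N ρ := isCharacter_sum _ fun σ _ => by
    rw [hdd]; exact isCharacter_natCast_smul (isCharacter_of_isIrr σ.2) _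
  have hXc : Xᶜ = Finset.univ.filter
      (fun χ : Cfsg.IrrCharacter N => ¬ IsRelevant (K.subgroupOf N) (χ : N → ℂ)) := by
    ext σ; simp [hXm σ]
  have hρT : ∀ x : N, (x : G) ∉ K → ρ x = 0 := by
    intro x hx
    have hx1 : x ≠ 1 := fun h => hx (h ▸ K.one_mem)
    have h := sum_degree_mul_apply x
    rw [if_neg hx1, ← Finset.sum_add_sum_compl X,
      Finset.sum_eq_zero (s := X) (fun σ hσ => by
        rw [off N K hC ((hXm σ).mp hσ) hx, mul_zero]), zero_add] at h
    simpa [hρ] using h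
  have hρσ : ∀ σ : Cfsg.IrrCharacter N, Cfsg.classInner ρ (σ : N → ℂ) = if σ ∈ Xᶜ then (σ : N → ℂ) 1 else 0 := by
    intro σ
    rw [hρ, classInner_sum_left]
    simp only [classInner_smul_left, classInner_irrCharacter, mul_ite, mul_one, mul_zero]
    rw [Finset.sum_ite_eq']
  have hρ1 : ρ 1 = (((K.subgroupOf N).index * 1 : ℕ) : ℂ) := by
    rw [mul_one, hρ, ← sum_degree_sq_not_relevant (K := (K.subgroupOf N)), ← hXc]
    simp [pow_two]
  have hρN : Cfsg.classInner ρ ρ = (((K.subgroupOf N).index : ℕ) : ℂ) := by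
    conv_lhs => arg 2; rw [hρ]
    rw [classInner_sum_right, ← sum_degree_sq_not_relevant (K := (K.subgroupOf N)), ← hXc]
    refine Finset.sum_congr rfl fun σ hσ => ?_
    rw [classInner_smul_right, hρσ, if_pos hσ, hdd, map_natCast, pow_two]
  have hb := (bound N K hTI hC d hd (fun x hx => (hXm x).mp hx) hg hρc hρT
    (fun x hx => by rw [hρσ, if_neg (by simpa using hx)]) hρ1 hρN hS).1
  rw [hρ, indFun_sum, classInner_sum_left] at hb
  obtain ⟨hlamX, hd1, hinj, hc1, hex⟩ := hg
  set Θ := th lam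
  choose k hk using fun σ : Cfsg.IrrCharacter N =>
    classInner_char_nat (isCharacter_indFun N (isCharacter_of_isIrr σ.2))
      (isCharacter_of_isIrr Θ.2)
  have hall : ∀ σ : Cfsg.IrrCharacter N,
      Cfsg.classInner (Cfsg.indFun N (σ : N → ℂ)) (Θ : G → ℂ) = if σ = lam then 1 else 0 := by
    intro σ
    rcases eq_or_ne σ lam with rfl | hne
    · rw [if_pos rfl, hc1]
    rw [if_neg hne]
    by_cases hσ : σ ∈ X
    · obtain ⟨s, hs, he⟩ := hex σ hσ hne
      have h := congrArg (fun f => Cfsg.classInner f (Θ : G → ℂ)) he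
      simp only [indFun_sub, indFun_smul, classInner_sub_left, classInner_smul_left, hc1,
        classInner_irr_self Θ.2,
        classInner_irr_ne (th σ).2 Θ.2 (fun h => hne (hinj hσ hlamX (Subtype.ext h)))] at h
      linear_combination h
    · have hz : ∑ σ ∈ Xᶜ, dd σ * k σ = 0 := by
        have : ((∑ σ ∈ Xᶜ, dd σ * k σ : ℕ) : ℂ) = 0 := by
          rw [← hb, Nat.cast_sum]
          refine Finset.sum_congr rfl fun τ _ => ?_
          rw [indFun_smul, classInner_smul_left, hk, hdd, Nat.cast_mul]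
        exact_mod_cast this
      have h := (Finset.sum_eq_zero_iff_of_nonneg fun _ _ => Nat.zero_le _).mp hz σ
        (Finset.mem_compl.mpr hσ)
      have hdpos : dd σ ≠ 0 := fun h0 => irr_one_ne_zero σ.2 (by rw [hdd, h0, Nat.cast_zero])
      rw [hk, (mul_eq_zero.mp h).resolve_left hdpos, Nat.cast_zero]
  have hres : (fun x : N => (Θ : G → ℂ) x) = (lam : N → ℂ) := by
    conv_lhs => rw [classFun_eq_sum (isClassFunction_of_isCharacter
      (isCharacter_res N (isCharacter_of_isIrr Θ.2)))]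
    have h1 : ∀ σ : Cfsg.IrrCharacter N,
        Cfsg.classInner (fun x : N => (Θ : G → ℂ) x) (σ : N → ℂ) = if σ = lam then 1 else 0 := by
      intro σ
      rw [← classInner_conj_symm, ← frobenius_reciprocity N _ (isClassFunction_of_isIrr Θ.2), hall]
      split_ifs <;> simp
    simp [h1, ite_smul, zero_smul]
  refine ⟨Θ, fun h => ?_, fun x => congrFun hres x⟩
  have h1 := congrFun hres 1
  simp only [h, hd lam ((hXm lam).mp hlamX), hd1] at h1
  norm_cast at h1
  omega


include hTI hC hKN hidx hd in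
/-- A correspondence with a common sign has sign one. -/
theorem good_of_signed {X : Finset (Cfsg.IrrCharacter N)}
    (hX : ∀ x ∈ X, IsRelevant (K.subgroupOf N) (x : N → ℂ))
    {lam : Cfsg.IrrCharacter N} (hlam : lam ∈ X) (hd1 : d lam = 1)
    {th : Cfsg.IrrCharacter N → Cfsg.IrrCharacter G} (hinj : Set.InjOn th X) {s : ℤ}
    (hs : s = 1 ∨ s = -1)
    (hex : ∀ x ∈ X, Cfsg.indFun N ((x : N → ℂ) - (d x : ℂ) • (lam : N → ℂ)) =
      (s : ℂ) • ((th x : G → ℂ) - (d x : ℂ) • (th lam : G → ℂ)))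
    (hS : (K.subgroupOf N).index + 2 < ∑ x ∈ X, d x ^ 2) : Good N d X lam th := by
  classical
  have hlr := hX lam hlam
  obtain ⟨c, -, hci, hcsq⟩ := gen_decomp
    (isGen_of_char (isCharacter_indFun N (isCharacter_of_isIrr lam.2)))
  have hcnn : ∀ χ : Cfsg.IrrCharacter G, 0 ≤ c χ := fun χ => by
    obtain ⟨k, hk⟩ := classInner_char_nat (isCharacter_indFun N (isCharacter_of_isIrr lam.2))
      (isCharacter_of_isIrr χ.2)
    rw [hci χ] at hk
    have : c χ = k := by exact_mod_cast hk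
    omega
  rw [norm_ind N K hTI hC hKN hidx d hd hlr, hd1, one_pow, mul_one] at hcsq
  have hval : ∀ x ∈ X, x ≠ lam → c (th x) = (d x : ℤ) * (c (th lam) - s) := by
    intro x hx hne
    have hz : ∀ y : N, (y : G) ∉ K → ((x : N → ℂ) - (d x : ℂ) • (lam : N → ℂ)) y = 0 :=
      fun y hy => by simp [off N K hC (hX x hx) hy, off N K hC hlr hy]
    have h0 : ((x : N → ℂ) - (d x : ℂ) • (lam : N → ℂ)) 1 = 0 := by
      simp [hd x (hX x hx), hd lam hlr, hd1]; ring
    have h : Cfsg.classInner (Cfsg.indFun N ((x : N → ℂ) - (d x : ℂ) • (lam : N → ℂ)))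
        (Cfsg.indFun N (lam : N → ℂ)) = -(d x : ℂ) := by
      rw [iso N K hTI (isClassFunction_of_isIrr lam.2) hz (fun y hy => off N K hC hlr hy) h0,
        classInner_sub_left, classInner_smul_left, classInner_irr_self lam.2,
        classInner_irr_ne x.2 lam.2 (fun h => hne (Subtype.ext h))]
      ring
    have hcc : ∀ j : Cfsg.IrrCharacter G,
        Cfsg.classInner (j : G → ℂ) (Cfsg.indFun N (lam : N → ℂ)) = (c j : ℂ) :=
      fun j => by rw [← classInner_conj_symm, hci, map_intCast]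
    rw [hex x hx, classInner_smul_left, classInner_sub_left, classInner_smul_left, hcc, hcc] at h
    have h' : s * (c (th x) - (d x : ℤ) * c (th lam)) = -(d x : ℤ) := by exact_mod_cast h
    rcases hs with rfl | rfl <;> linarith
  have hsum : ∑ x ∈ X, c (th x) ^ 2 ≤ 1 + ((K.subgroupOf N).index : ℤ) := by
    have h2 : ∑ χ, c χ ^ 2 = 1 + ((K.subgroupOf N).index : ℤ) := by exact_mod_cast hcsq.symm
    rw [← h2, ← Finset.sum_image (f := fun χ => c χ ^ 2) hinj]
    exact Finset.sum_le_sum_of_subset_of_nonneg (Finset.subset_univ _) fun _ _ _ => sq_nonneg _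
  rw [← Finset.add_sum_erase _ _ hlam, Finset.sum_congr rfl fun x hx => by
    rw [hval x (Finset.mem_of_mem_erase hx) (Finset.ne_of_mem_erase hx), mul_pow],
    ← Finset.sum_mul] at hsum
  rw [← Finset.add_sum_erase _ _ hlam, hd1] at hS
  have hS' : ((K.subgroupOf N).index : ℤ) + 2 < 1 + ∑ x ∈ X.erase lam, (d x : ℤ) ^ 2 := by
    exact_mod_cast hS
  have hcl : c (th lam) = s := by
    by_contra hne
    have h5 : (1 : ℤ) ≤ (c (th lam) - s) ^ 2 := by
      have : c (th lam) - s ≠ 0 := sub_ne_zero.mpr hne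
      have := pow_two_pos_of_ne_zero this
      omega
    have h6 := sq_nonneg (c (th lam))
    nlinarith
  have hs1 : s = 1 := by
    have := hcnn (th lam)
    rcases hs with rfl | rfl <;> omega
  refine ⟨hlam, hd1, hinj, by rw [hci, hcl, hs1, Int.cast_one], fun x hx _ => ⟨1, Or.inl rfl, ?_⟩⟩
  rw [hex x hx, hs1]
  simp

include hTI hC hKN hidx hd in
/-- The main consequence: a character of `G` of degree `[N:K]` extending a least character. -/
theorem exists_extension (he2 : 2 ≤ (K.subgroupOf N).index)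
    (hd0 : ∀ χ : Cfsg.IrrCharacter N, IsRelevant (K.subgroupOf N) (χ : N → ℂ) → 0 < d χ)
    (X₁ : Finset (Cfsg.IrrCharacter N))
    (hX₁ : ∀ x, x ∈ X₁ ↔ IsRelevant (K.subgroupOf N) (x : N → ℂ) ∧ d x = 1) (hcard : (K.subgroupOf N).index + 3 ≤ X₁.card)
    (hgrow : ∀ μ : Cfsg.IrrCharacter N, IsRelevant (K.subgroupOf N) (μ : N → ℂ) → d μ ≠ 1 →
      ∀ X : Finset (Cfsg.IrrCharacter N),
        (∀ x : Cfsg.IrrCharacter N, IsRelevant (K.subgroupOf N) (x : N → ℂ) → d x < d μ → x ∈ X) →
        2 * d μ + 1 < ∑ x ∈ X, d x ^ 2) :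
    ∃ (lam : Cfsg.IrrCharacter N) (Θ : Cfsg.IrrCharacter G), lam ∈ X₁ ∧
      ((Θ : G → ℂ) ≠ fun _ => 1) ∧ ∀ x : N, (Θ : G → ℂ) x = (lam : N → ℂ) x := by
  classical
  have := Fintype.ofFinite (K.subgroupOf N)
  obtain ⟨lam, hlam⟩ : X₁.Nonempty := Finset.card_pos.mp (by omega)
  have hrel1 : ∀ x ∈ X₁, IsRelevant (K.subgroupOf N) (x : N → ℂ) := fun x hx => ((hX₁ x).mp hx).1
  have main : ∀ X : Finset (Cfsg.IrrCharacter N), X₁ ⊆ X → (∀ x ∈ X, IsRelevant (K.subgroupOf N) (x : N → ℂ)) →
      (∀ x ∈ X, ∀ y : Cfsg.IrrCharacter N, IsRelevant (K.subgroupOf N) (y : N → ℂ) → d y < d x → y ∈ X) →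
      ∃ th, Good N d X lam th := by
    intro X
    induction X using Finset.strongInductionOn with
    | _ X ih =>
      intro hsub hrel hdown
      obtain ⟨μ, hμX, hmax⟩ := X.exists_max_image d ⟨lam, hsub hlam⟩
      by_cases hμ1 : d μ = 1
      · have hXe : X = X₁ := Finset.Subset.antisymm (fun x hx => (hX₁ x).mpr ⟨hrel x hx, by
          have := hmax x hx
          have := hd0 x (hrel x hx)
          omega⟩) hsub
        rw [hXe]
        exact base N K hTI hC hKN hidx d hd hrel1 (fun x hx => ((hX₁ x).mp hx).2) hcard hlam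
      · obtain ⟨th, hth⟩ := ih (X.erase μ) (Finset.erase_ssubset hμX)
          (fun x hx => Finset.mem_erase.mpr
            ⟨fun h => hμ1 (h ▸ ((hX₁ x).mp hx).2), hsub hx⟩)
          (fun x hx => hrel x (Finset.mem_of_mem_erase hx))
          (fun x hx y hy hlt => Finset.mem_erase.mpr
            ⟨fun h => (Nat.lt_irrefl _) ((h ▸ hlt).trans_le (hmax x (Finset.mem_of_mem_erase hx))),
              hdown x (Finset.mem_of_mem_erase hx) y hy hlt⟩)
        obtain ⟨th', hth'⟩ := extend N K hTI hC d hd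
          (fun x hx => hrel x (Finset.mem_of_mem_erase hx)) hth (hrel μ hμX)
          (Finset.notMem_erase μ X)
          (hgrow μ (hrel μ hμX) hμ1 _ fun x hx hlt => Finset.mem_erase.mpr
            ⟨fun h => Nat.lt_irrefl _ (h ▸ hlt), hdown μ hμX x hx hlt⟩)
        rw [Finset.insert_erase hμX] at hth'
        exact ⟨th', hth'⟩
  set X := Finset.univ.filter fun x : Cfsg.IrrCharacter N => IsRelevant (K.subgroupOf N) (x : N → ℂ) with hXdef
  have hXm : ∀ x, x ∈ X ↔ IsRelevant (K.subgroupOf N) (x : N → ℂ) := fun x => by simp [hXdef]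
  obtain ⟨th, hg⟩ := main X (fun x hx => (hXm x).mpr (hrel1 x hx)) (fun x hx => (hXm x).mp hx)
    (fun x _ y hy _ => (hXm y).mpr hy)
  have hSX : X₁.card ≤ ∑ x ∈ X, d x ^ 2 :=
    calc X₁.card = ∑ x ∈ X₁, d x ^ 2 := by
          rw [Finset.card_eq_sum_ones]
          exact Finset.sum_congr rfl fun x hx => by rw [((hX₁ x).mp hx).2, one_pow]
      _ ≤ _ := Finset.sum_le_sum_of_subset fun x hx => (hXm x).mpr (hrel1 x hx)
  obtain ⟨Θ, h1, h2⟩ := of_good N K hTI hC d hd he2 X hXm hg (by omega)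
  exact ⟨lam, Θ, hlam, h1, h2⟩

end CfsgLib.FeitZass
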